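import Cfsg.Agent.Lib.FGS68.SuzukiStructure
import Cfsg.Agent.Lib.FGS68.PLength
import Cfsg.Agent.Lib.OddOrder.PPrime
import Cfsg.Agent.Lib.Solvable.Core
import Cfsg.Agent.Lib.RealChar.CrossPrincipal
import Cfsg.Agent.Lib.Solvable.CoprimeAction
import Cfsg.Prelude.Def_Local

/-!
Solvable groups with a single class of involutions: the Sylow 2-subgroup is normal modulo the odd core.
-/

set_option autoImplicit false
set_option linter.style.haveILetI false

open scoped commutatorElement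

namespace CfsgLib.OneInvolClass

open Subgroup

/-- An abelian 2-group whose automorphisms are transitive on involutions is homocyclic. -/
theorem homocyclic {A : Type*} [CommGroup A] [Finite A] (hA : IsPGroup 2 A)
    (htr : ∀ x y : A, x ≠ 1 → x ^ 2 = 1 → y ≠ 1 → y ^ 2 = 1 → ∃ e : MulAut A, e x = y) :
    ∃ m r : ℕ, Nonempty (A ≃* (Fin r → Multiplicative (ZMod (2 ^ m)))) := by
  classical
  haveI : Fact (Nat.Prime 2) := ⟨Nat.prime_two⟩
  obtain ⟨ι, hι, n, hn, ⟨e⟩⟩ := CommGroup.equiv_prod_multiplicative_zmod_of_finite A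
  let g : ι → A := fun i => e.symm (Pi.mulSingle i (Multiplicative.ofAdd (1 : ZMod (n i))))
  have hord : ∀ i, orderOf (g i) = n i := by
    intro i
    show orderOf (e.symm (Pi.mulSingle i (Multiplicative.ofAdd (1 : ZMod (n i))))) = n i
    rw [MulEquiv.orderOf_eq]
    exact (orderOf_injective (MonoidHom.mulSingle (fun i => Multiplicative (ZMod (n i))) i)
      (fun _ _ h => Pi.mulSingle_injective (M := fun i => Multiplicative (ZMod (n i))) i h) _).trans
      (by rw [orderOf_ofAdd_eq_addOrderOf, ZMod.addOrderOf_one])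
  have hpow : ∀ i, ∃ a, n i = 2 ^ (a + 1) := by
    intro i
    obtain ⟨k, hk⟩ := IsPGroup.iff_orderOf.mp hA (g i)
    rw [hord i] at hk
    rcases k with _ | k
    · have := hn i
      simp [hk] at this
    · exact ⟨k, hk⟩
  choose a ha using hpow
  have key : ∀ i j, a j ≤ a i := by
    intro i j
    by_contra hlt
    have hinv : ∀ l, g l ^ 2 ^ a l ≠ 1 ∧ (g l ^ 2 ^ a l) ^ 2 = 1 := fun l => ⟨fun h => by
        have h1 := Nat.le_of_dvd (pow_pos (by norm_num) _) (orderOf_dvd_of_pow_eq_one h)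
        rw [hord l, ha l] at h1
        have := (Nat.pow_le_pow_iff_right (by norm_num : 1 < 2)).mp h1
        omega,
      by rw [← pow_mul, ← pow_succ, ← ha l, ← hord l]; exact pow_orderOf_eq_one _⟩
    obtain ⟨f, hf⟩ := htr _ _ (hinv j).1 (hinv j).2 (hinv i).1 (hinv i).2
    rw [map_pow] at hf
    have h1 : (e (f (g j)) i) ^ 2 ^ a j = 1 := by
      obtain ⟨c, hc⟩ := pow_dvd_pow 2 (show a i + 1 ≤ a j by omega)
      rw [hc, ← ha i, pow_mul]
      haveI : NeZero (n i) := ⟨by have := hn i; omega⟩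
      have : (e (f (g j)) i) ^ n i = 1 := by
        have h := pow_card_eq_one' (x := e (f (g j)) i)
        rwa [Nat.card_eq_of_bijective _ Multiplicative.toAdd.bijective, Nat.card_zmod] at h
      rw [this, one_pow]
    rw [← Pi.pow_apply, ← map_pow, hf, map_pow, Pi.pow_apply] at h1
    have hsimp : e (g i) i = Multiplicative.ofAdd (1 : ZMod (n i)) := by
      show e (e.symm _) i = _
      rw [MulEquiv.apply_symm_apply, Pi.mulSingle_eq_same]
    rw [hsimp] at h1
    have h2 := orderOf_dvd_of_pow_eq_one h1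
    rw [orderOf_ofAdd_eq_addOrderOf, ZMod.addOrderOf_one, ha i] at h2
    have := (Nat.pow_dvd_pow_iff_le_right (by norm_num : 1 < 2)).mp h2
    omega
  rcases isEmpty_or_nonempty ι with he | ⟨⟨i₀⟩⟩
  · exact ⟨0, 0, ⟨e.trans (MulEquiv.ofUnique)⟩⟩
  · have hall : n = fun _ => 2 ^ (a i₀ + 1) := funext fun i => by
      rw [ha i, le_antisymm (key i₀ i) (key i i₀)]
    subst hall
    exact ⟨a i₀ + 1, Fintype.card ι,
      ⟨e.trans (MulEquiv.arrowCongr (Fintype.equivFin ι) (MulEquiv.refl _))⟩⟩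

variable {H : Type*} [Group H] [Finite H] [Group.IsSolvable H]

/-- A solvable nontrivial group has a nontrivial normal subgroup of prime power order. -/
theorem exists_normal_prime_power [Nontrivial H] :
    ∃ (r : ℕ) (_ : Fact r.Prime) (N : Subgroup H), N.Normal ∧ IsPGroup r N ∧ N ≠ ⊥ := by
  classical
  obtain ⟨k, hk⟩ := (Group.isSolvable_def H).1 inferInstance
  have hex : ∃ k, derivedSeries H k = ⊥ := ⟨k, hk⟩
  have hk0 : Nat.find hex ≠ 0 := fun h => by
    have := Nat.find_spec hex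
    rw [h, derivedSeries_zero] at this
    exact (top_ne_bot (α := Subgroup H)) this
  obtain ⟨j, hj⟩ := Nat.exists_eq_succ_of_ne_zero hk0
  set D := derivedSeries H j with hD
  have hDn : D ≠ ⊥ := Nat.find_min hex (by omega)
  haveI : D.Normal := derivedSeries_normal H j
  have hcomm : ∀ x ∈ D, ∀ y ∈ D, Commute x y := fun x hx y hy => by
    have h : ⁅x, y⁆ ∈ derivedSeries H (j + 1) := commutator_mem_commutator hx hy
    have hspec := Nat.find_spec hex
    rw [hj] at hspec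
    rw [hspec, mem_bot] at h
    exact commutatorElement_eq_one_iff_commute.1 h
  obtain ⟨r, hr, hrd⟩ := Nat.exists_prime_and_dvd (fun h => hDn (card_eq_one.1 h))
  haveI : Fact r.Prime := ⟨hr⟩
  let N : Subgroup H :=
    { carrier := {x | x ∈ D ∧ ∃ k, x ^ r ^ k = 1}
      one_mem' := ⟨D.one_mem, 0, one_pow _⟩
      mul_mem' := fun {x y} ⟨hx, k, hxk⟩ ⟨hy, l, hyl⟩ => ⟨D.mul_mem hx hy, k + l, by
        rw [(hcomm x hx y hy).mul_pow, pow_add]
        conv_lhs => arg 1; rw [pow_mul, hxk, one_pow]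
        rw [one_mul, mul_comm, pow_mul, hyl, one_pow]⟩
      inv_mem' := fun {x} ⟨hx, k, hxk⟩ => ⟨D.inv_mem hx, k, by rw [inv_pow, hxk, inv_one]⟩ }
  refine ⟨r, inferInstance, N, ⟨fun x ⟨hx, k, hxk⟩ g => ⟨‹D.Normal›.conj_mem x hx g, k, by
    rw [conj_pow, hxk, mul_one, mul_inv_cancel]⟩⟩, fun x => ?_, fun h => ?_⟩
  · obtain ⟨k, hk⟩ := x.2.2
    exact ⟨k, Subtype.ext (by rw [SubmonoidClass.coe_pow]; exact hk)⟩
  · obtain ⟨x, hx⟩ := exists_prime_orderOf_dvd_card' r hrd
    have hxN : (x : H) ∈ N := ⟨x.2, 1, by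
      rw [pow_one, ← hx, ← orderOf_coe x]; exact pow_orderOf_eq_one _⟩
    rw [h, mem_bot] at hxN
    rw [← orderOf_coe x, hxN, orderOf_one] at hx
    exact hr.one_lt.ne hx

variable (hO : Cfsg.pPrimeCore 2 H = ⊥) (S : Sylow 2 H)
  (htwo : ∃ x y : H, x ∈ (S : Subgroup H) ∧ y ∈ (S : Subgroup H) ∧ x ≠ y ∧ x ≠ 1 ∧ x ^ 2 = 1 ∧ y ≠ 1 ∧ y ^ 2 = 1)
  (hconj : ∀ x y : H, x ≠ 1 → x ^ 2 = 1 → y ≠ 1 → y ^ 2 = 1 → IsConj x y)

include hO htwo hconj

/-- The main step: `S` is normal, and its normalizer is transitive on its involutions. -/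
theorem sylow_normal_and_trans : (S : Subgroup H).Normal := by
  classical
  haveI : Fact (Nat.Prime 2) := ⟨Nat.prime_two⟩
  set Q := Cfsg.pCore 2 H with hQdef
  haveI hQn : Q.Normal := Solvable.pCore_normal 2 H
  have hQp : IsPGroup 2 Q := Solvable.pCore_isPGroup 2 H
  have hcent : centralizer (Q : Set H) ≤ Q := OddOrder.centralizer_pCore_le hO
  have hQne : Q ≠ ⊥ := fun h => by
    obtain ⟨x, -, -, -, -, hx1, -⟩ := htwo
    have hxQ : x ∈ Q := hcent (mem_centralizer_iff.2 fun q hq => by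
      rw [SetLike.mem_coe, h, mem_bot] at hq
      rw [hq, one_mul, mul_one])
    rw [h, mem_bot] at hxQ
    exact hx1 hxQ
  have hQsyl : ∀ T : Sylow 2 H, Q ≤ (T : Subgroup H) := fun T => hQp.le_sylow_of_normal T
  let Z : Subgroup H :=
    { carrier := {x | x ∈ Q ∧ x ^ 2 = 1 ∧ ∀ q ∈ Q, x * q = q * x}
      one_mem' := ⟨Q.one_mem, one_pow _, fun q _ => by rw [one_mul, mul_one]⟩
      mul_mem' := fun {x y} ⟨hx, hx2, hxc⟩ ⟨hy, hy2, hyc⟩ => ⟨Q.mul_mem hx hy, by
          rw [(show Commute x y from hxc y hy).mul_pow, hx2, hy2, one_mul],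
        fun q hq => by rw [mul_assoc, hyc q hq, ← mul_assoc, hxc q hq, mul_assoc]⟩
      inv_mem' := fun {x} ⟨hx, hx2, hxc⟩ => ⟨Q.inv_mem hx, by rw [inv_pow, hx2, inv_one],
        fun q hq => (show Commute x q from hxc q hq).inv_left.eq⟩ }
  haveI hZn : Z.Normal := ⟨fun x ⟨hx, hx2, hxc⟩ g => ⟨hQn.conj_mem x hx g, by
      rw [conj_pow, hx2, mul_one, mul_inv_cancel], fun q hq => by
      have hq' : g⁻¹ * q * g ∈ Q := by simpa using hQn.conj_mem q hq g⁻¹
      calc g * x * g⁻¹ * q = g * (x * (g⁻¹ * q * g)) * g⁻¹ := by group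
        _ = g * ((g⁻¹ * q * g) * x) * g⁻¹ := by rw [hxc _ hq']
        _ = q * (g * x * g⁻¹) := by group⟩⟩
  have hZne : Z ≠ ⊥ := by
    obtain ⟨z, hz, hz1⟩ := Solvable.exists_ne_one_mem_inf_center_of_normal hQp
      (N := (⊤ : Subgroup Q)) (fun h => hQne (card_eq_one.1 (by rw [← card_top, h, card_bot])))
    obtain ⟨k, hk⟩ := IsPGroup.iff_orderOf.mp hQp z
    have hk0 : k ≠ 0 := fun h => hz1 (orderOf_eq_one_iff.1 (by rw [hk, h, pow_zero]))
    obtain ⟨l, rfl⟩ := Nat.exists_eq_succ_of_ne_zero hk0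
    intro h
    have hmem : ((z ^ 2 ^ l : Q) : H) ∈ Z := ⟨(z ^ 2 ^ l).2, by
        rw [← SubmonoidClass.coe_pow, ← pow_mul, ← pow_succ, ← hk, pow_orderOf_eq_one, OneMemClass.coe_one],
      fun q hq => by
        have hc := ((mem_center_iff.1 hz.2 ⟨q, hq⟩ : (⟨q, hq⟩ : Q) * z = z * ⟨q, hq⟩))
        have hc' : Commute (z : Q) ⟨q, hq⟩ := hc.symm
        exact congrArg Subtype.val (hc'.pow_left (2 ^ l)).eq⟩
    rw [h, mem_bot, OneMemClass.coe_eq_one] at hmem
    have := Nat.le_of_dvd (pow_pos (by norm_num) _) (orderOf_dvd_of_pow_eq_one hmem)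
    rw [hk] at this
    have := (Nat.pow_le_pow_iff_right (by norm_num : 1 < 2)).mp this
    omega
  obtain ⟨z₀, hz₀, hz₀1⟩ := (Subgroup.ne_bot_iff_exists_ne_one.1 hZne)
    |> fun ⟨x, hx⟩ => (⟨(x : H), x.2, fun h => hx (Subtype.ext h)⟩ : ∃ x : H, x ∈ Z ∧ x ≠ 1)
  have hinvZ : ∀ x : H, x ^ 2 = 1 → x ∈ Z := by
    intro x hx
    rcases eq_or_ne x 1 with rfl | hx1
    · exact Z.one_mem
    · obtain ⟨c, rfl⟩ := isConj_iff.1 (hconj z₀ x hz₀1 hz₀.2.1 hx1 hx)
      exact hZn.conj_mem z₀ hz₀ c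
  haveI hKn : (centralizer (Z : Set H)).Normal := inferInstance
  set K := centralizer (Z : Set H) with hK
  have htrans : ∀ z ∈ Z, z ≠ 1 → ∀ N : Subgroup H, N.Normal → (∀ n ∈ N, n * z = z * n) → N ≤ K := by
    intro z hz hz1 N hN hc n hn
    refine mem_centralizer_iff.2 fun w hw => ?_
    rcases eq_or_ne w 1 with rfl | hw1
    · rw [one_mul, mul_one]
    obtain ⟨c, rfl⟩ := isConj_iff.1 (hconj z w hz1 hz.2.1 hw1 hw.2.1)
    have hn' : c⁻¹ * n * c ∈ N := by simpa using hN.conj_mem n hn c⁻¹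
    calc c * z * c⁻¹ * n = c * (z * (c⁻¹ * n * c)) * c⁻¹ := by group
      _ = c * ((c⁻¹ * n * c) * z) * c⁻¹ := by rw [hc _ hn']
      _ = n * (c * z * c⁻¹) := by group
  have hpfix : ∀ T : Sylow 2 H, ∃ z ∈ Z, z ≠ 1 ∧ ∀ t ∈ (T : Subgroup H), t * z = z * t := by
    intro T
    have hZT : Z ≤ (T : Subgroup H) := fun x hx => hQsyl T hx.1
    obtain ⟨z, ⟨hz, hzc⟩, hz1⟩ := Solvable.exists_ne_one_mem_inf_center_of_normal T.isPGroup'
      (N := Z.subgroupOf (T : Subgroup H)) (fun h => hZne (by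
        rw [subgroupOf_eq_bot, disjoint_iff, inf_eq_left.2 hZT] at h; exact h))
    exact ⟨z, mem_subgroupOf.1 hz, fun h => hz1 (Subtype.ext h),
      fun t ht => congrArg Subtype.val (mem_center_iff.1 hzc ⟨t, ht⟩)⟩
  -- the quotient by the centraliser of `Z` has odd order
  have hodd : ¬ 2 ∣ K.index := by
    intro h2
    haveI : Nontrivial (H ⧸ K) := Finite.one_lt_card_iff_nontrivial.1 (by
      rw [← index_eq_card]
      exact Nat.lt_of_lt_of_le one_lt_two (Nat.le_of_dvd (Nat.pos_of_ne_zero index_ne_zero_of_finite) h2))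
    obtain ⟨r, hr, Rb, hRn, hRp, hRne⟩ := exists_normal_prime_power (H := H ⧸ K)
    set R := Rb.comap (QuotientGroup.mk' K) with hR
    haveI hRn' : R.Normal := inferInstance
    have hKR : K ≤ R := fun k hk => by
      rw [hR, mem_comap, QuotientGroup.mk'_apply, (QuotientGroup.eq_one_iff k).2 hk]; exact Rb.one_mem
    let T : Sylow r R := default
    set T' := (T : Subgroup R).map R.subtype with hT'
    have hTp : IsPGroup r T' := T.isPGroup'.map _
    have hTR : T' ≤ R := map_subtype_le _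
    have hTK : R ≤ T' ⊔ K := by
      intro x hx
      have hsurj : Function.Surjective
          (((QuotientGroup.mk' K).comp R.subtype).codRestrict Rb (fun y => y.2)) := by
        rintro ⟨y, hy⟩
        obtain ⟨g, rfl⟩ := QuotientGroup.mk'_surjective K y
        exact ⟨⟨g, hy⟩, rfl⟩
      have htop := (T.mapSurjective hsurj).is_maximal'
        (hRp.of_equiv (topEquiv (G := ↥Rb)).symm) le_top
      have hx' : (⟨(QuotientGroup.mk' K) x, hx⟩ : Rb) ∈
          ((T.mapSurjective hsurj : Sylow r Rb) : Subgroup Rb) := htop ▸ mem_top _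
      rw [Sylow.coe_mapSurjective] at hx'
      obtain ⟨t, ht, htx⟩ := hx'
      have h1 : (t : H)⁻¹ * x ∈ K :=
        (QuotientGroup.eq).1 (congrArg Subtype.val htx : (QuotientGroup.mk' K) (t : H) = QuotientGroup.mk' K x)
      have := mul_mem (mem_sup_left (T := K) (show (t : H) ∈ T' from ⟨t, ht, rfl⟩)) (mem_sup_right h1)
      rwa [mul_inv_cancel_left] at this
    have hRK : ¬ R ≤ K := fun h => hRne (by
      rw [eq_bot_iff]
      intro y hy
      obtain ⟨g, rfl⟩ := QuotientGroup.mk'_surjective K y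
      exact mem_bot.2 ((QuotientGroup.eq_one_iff g).2 (h hy)))
    have hfix : ∀ z ∈ Z, (∀ t ∈ T', t * z = z * t) → z = 1 := by
      intro z hz hc
      by_contra hz1
      refine hRK (htrans z hz hz1 R hRn' fun n hn => ?_)
      have hle : T' ⊔ K ≤ centralizer ({z} : Set H) :=
        sup_le (fun t ht => mem_centralizer_singleton_iff.2 (hc t ht))
          (fun k hk => mem_centralizer_singleton_iff.2 (mem_centralizer_iff.1 hk z hz).symm)
      exact mem_centralizer_singleton_iff.1 (hle (hTK hn))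
    have hr2 : r ≠ 2 := by
      rintro rfl
      obtain ⟨U, hU⟩ := hTp.exists_le_sylow
      obtain ⟨z, hz, hz1, hzc⟩ := hpfix U
      exact hz1 (hfix z hz fun t ht => hzc t (hU ht))
    have hfr := Sylow.normalizer_sup_eq_top T
    rw [← hT'] at hfr
    set N := normalizer (T' : Set H) with hN
    have hmapN : N.map (QuotientGroup.mk' R) = ⊤ := by
      rw [eq_top_iff, ← map_top_of_surjective _ (QuotientGroup.mk'_surjective R), ← hfr,
        Subgroup.map_sup, QuotientGroup.map_mk'_self, sup_bot_eq]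
    have hdvd : R.index ∣ Nat.card N := by
      rw [index_eq_card, ← card_top (G := H ⧸ R), ← hmapN]
      exact card_map_dvd _ _
    have hRidx : 2 ∣ R.index := by
      have h3 : K.index = K.relIndex R * R.index := (relIndex_mul_index hKR).symm
      have h4 : ¬ 2 ∣ K.relIndex R := by
        have h5 : K.relIndex R = Nat.card Rb := by
          have hmR : R.map (QuotientGroup.mk' K) = Rb :=
            map_comap_eq_self_of_surjective (QuotientGroup.mk'_surjective K) Rb
          have h := relIndex_comap (⊥ : Subgroup (H ⧸ K)) (QuotientGroup.mk' K) R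
          rwa [MonoidHom.comap_bot, QuotientGroup.ker_mk', hmR, relIndex_bot_left] at h
        obtain ⟨m, hm⟩ := hRp.exists_card_eq
        rw [h5, hm]
        exact fun h => hr2 ((Nat.prime_dvd_prime_iff_eq Nat.prime_two hr.out).1
          (Nat.prime_two.dvd_of_dvd_pow h)).symm
      rw [h3] at h2
      exact (Nat.prime_two.dvd_mul.1 h2).resolve_left h4
    obtain ⟨x, hx⟩ := exists_prime_orderOf_dvd_card' 2 (hRidx.trans hdvd)
    have hx2 : (x : H) ^ 2 = 1 := by rw [← hx, ← orderOf_coe x]; exact pow_orderOf_eq_one _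
    refine absurd (hfix x (hinvZ x hx2) fun t ht => ?_) fun h => by
      rw [← orderOf_coe x, h, orderOf_one] at hx; omega
    have hcomm : ⁅(x : H), t⁆ ∈ T' ⊓ Z := ⟨T'.mul_mem ((mem_normalizer_iff.1 x.2 t).1 ht) (T'.inv_mem ht), by
      have h6 : (x : H) * (t * (x : H)⁻¹ * t⁻¹) ∈ Z :=
        Z.mul_mem (hinvZ x hx2) (hZn.conj_mem _ (Z.inv_mem (hinvZ x hx2)) t)
      rwa [commutatorElement_def, mul_assoc, mul_assoc, ← mul_assoc t]⟩
    obtain ⟨m, hm⟩ := hTp ⟨_, hcomm.1⟩
    have hm' : ⁅(x : H), t⁆ ^ r ^ m = 1 := congrArg Subtype.val hm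
    have hodd' : Nat.Coprime (r ^ m) 2 := ((Nat.coprime_primes hr.out Nat.prime_two).2 hr2).pow_left m
    have h7 : ⁅(x : H), t⁆ = 1 := orderOf_eq_one_iff.1 (Nat.dvd_one.1 (hodd' ▸
      Nat.dvd_gcd (orderOf_dvd_of_pow_eq_one hm') (orderOf_dvd_of_pow_eq_one hcomm.2.2.1)))
    exact (commutatorElement_eq_one_iff_commute.1 h7).eq.symm
  have hSK : ∀ T : Sylow 2 H, (T : Subgroup H) ≤ K := fun T =>
    RealChar.Cross.sylow_le_of_not_dvd_index K hodd T
  -- transitivity of the normalizer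
  have hsolvN : Group.IsSolvable ↥(normalizer ((S : Subgroup H) : Set H)) := inferInstance
  have hfr : normalizer ((S : Subgroup H) : Set H) ⊔ K = ⊤ := by
    have := Sylow.normalizer_sup_eq_top (S.subtype (hSK S))
    rwa [Sylow.coe_subtype, map_subgroupOf_eq_of_le (hSK S)] at this
  have hcommS : ∀ x ∈ (S : Subgroup H), ∀ y ∈ (S : Subgroup H), ⁅x, y⁆ ∈ Z := by
    by_cases hab : ∀ x y : ↥(S : Subgroup H), x * y = y * x
    · intro x hx y hy
      rw [commutatorElement_eq_one_iff_commute.2 (congrArg Subtype.val (hab ⟨x, hx⟩ ⟨y, hy⟩))]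
      exact Z.one_mem
    push Not at hab
    let ρ : ↥(normalizer ((S : Subgroup H) : Set H)) →* MulAut ↥(S : Subgroup H) :=
      Subgroup.normalizerMonoidHom _
    have hR : FGS68.SuzukiGen.TransInv ρ.range := by
      refine ⟨inferInstance, S.isPGroup', ?_, solvable_of_surjective ρ.rangeRestrict_surjective, ?_⟩
      · obtain ⟨x, y, hx, hy, hxy, hx1, hx2, hy1, hy2⟩ := htwo
        exact ⟨⟨x, hx⟩, ⟨y, hy⟩, fun h => hxy (congrArg Subtype.val h),
          fun h => hx1 (congrArg Subtype.val h), Subtype.ext ((sq x).symm.trans hx2),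
          fun h => hy1 (congrArg Subtype.val h), Subtype.ext ((sq y).symm.trans hy2)⟩
      · intro x y hx1 hx2 hy1 hy2
        have hx2' : (x : H) ^ 2 = 1 := by rw [sq]; exact congrArg Subtype.val hx2
        have hy2' : (y : H) ^ 2 = 1 := by rw [sq]; exact congrArg Subtype.val hy2
        obtain ⟨c, hc⟩ := isConj_iff.1 (hconj x y (fun h => hx1 (Subtype.ext h)) hx2'
          (fun h => hy1 (Subtype.ext h)) hy2')
        have hcm : c ∈ normalizer ((S : Subgroup H) : Set H) ⊔ K := hfr ▸ mem_top c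
        obtain ⟨n, hn, k, hk, rfl⟩ := mem_sup_of_normal_right.1 hcm
        refine ⟨ρ ⟨n, hn⟩, ⟨_, rfl⟩, Subtype.ext ?_⟩
        show n * (x : H) * n⁻¹ = y
        rw [← hc, mul_inv_rev]
        have hkx : k * (x : H) * k⁻¹ = x := by
          rw [← mem_centralizer_iff.1 hk (x : H) (hinvZ _ hx2'), mul_inv_cancel_right]
        conv_lhs => rw [← hkx]
        group
    obtain ⟨-, hcm, -⟩ := FGS68.SuzukiGen.structure_theorem hR hab
    intro x hx y hy
    refine hinvZ _ ?_
    rw [sq]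
    exact congrArg Subtype.val (hcm ⟨x, hx⟩ ⟨y, hy⟩).2
  -- the stabiliser of the series `Q > Z > 1`
  let M : Subgroup H :=
    { carrier := {g | g ∈ K ∧ ∀ q ∈ Q, g * q * g⁻¹ * q⁻¹ ∈ Z}
      one_mem' := ⟨K.one_mem, fun q _ => by simp [Z.one_mem]⟩
      mul_mem' := fun {a b} ⟨ha, ha'⟩ ⟨hb, hb'⟩ => ⟨K.mul_mem ha hb, fun q hq => by
        have : a * b * q * (a * b)⁻¹ * q⁻¹ =
            (a * (b * q * b⁻¹ * q⁻¹) * a⁻¹) * (a * q * a⁻¹ * q⁻¹) := by group
        rw [this]
        exact Z.mul_mem (hZn.conj_mem _ (hb' q hq) a) (ha' q hq)⟩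
      inv_mem' := fun {a} ⟨ha, ha'⟩ => ⟨K.inv_mem ha, fun q hq => by
        have : a⁻¹ * q * a⁻¹⁻¹ * q⁻¹ = a⁻¹ * (a * q * a⁻¹ * q⁻¹)⁻¹ * a⁻¹⁻¹ := by group
        rw [this]
        exact hZn.conj_mem _ (Z.inv_mem (ha' q hq)) _⟩ }
  haveI hMn : M.Normal := ⟨fun a ⟨ha, ha'⟩ g => ⟨hKn.conj_mem a ha g, fun q hq => by
    have hq' : g⁻¹ * q * g ∈ Q := by simpa using hQn.conj_mem q hq g⁻¹
    have : g * a * g⁻¹ * q * (g * a * g⁻¹)⁻¹ * q⁻¹ =
        g * (a * (g⁻¹ * q * g) * a⁻¹ * (g⁻¹ * q * g)⁻¹) * g⁻¹ := by group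
    rw [this]
    exact hZn.conj_mem _ (ha' _ hq') g⟩⟩
  have hSM : (S : Subgroup H) ≤ M := fun x hx => ⟨hSK S hx, fun q hq => by
    have h := hcommS x hx q (hQsyl S hq)
    rwa [commutatorElement_def] at h⟩
  have hMp : IsPGroup 2 M := by
    intro g
    obtain ⟨a, m, hm, ham⟩ := Nat.exists_eq_pow_mul_and_not_dvd (orderOf_pos g).ne' 2 (by norm_num)
    set u : H := ((g ^ 2 ^ a : M) : H) with hu
    have hum : u ^ m = 1 := by
      rw [hu, ← SubmonoidClass.coe_pow, ← pow_mul, ← ham, pow_orderOf_eq_one, OneMemClass.coe_one]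
    have huM : u ∈ M := (g ^ 2 ^ a).2
    have huc : u ∈ centralizer (Q : Set H) := by
      refine mem_centralizer_iff.2 fun q hq => ?_
      set c := u * q * u⁻¹ * q⁻¹ with hc
      have hcZ : c ∈ Z := huM.2 q hq
      have hu1 : u * c = c * u := (mem_centralizer_iff.1 huM.1 c hcZ).symm
      have hq1 : u * q = c * q * u := by rw [hc]; group
      have h2 : u ^ 2 * q = q * u ^ 2 := by
        calc u ^ 2 * q = u * (u * q) := by rw [sq, mul_assoc]
          _ = (u * c) * q * u := by rw [hq1]; group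
          _ = c * (u * q) * u := by rw [hu1]; group
          _ = c * c * q * u ^ 2 := by rw [hq1, sq]; group
          _ = q * u ^ 2 := by rw [← sq, hcZ.2.1, one_mul]
      obtain ⟨j, hj⟩ := exists_pow_eq_self_of_coprime (x := u) (n := 2)
        (((Nat.prime_two.coprime_iff_not_dvd).2 hm).coprime_dvd_right (orderOf_dvd_of_pow_eq_one hum))
      rw [← hj]
      exact ((show Commute (u ^ 2) q from h2).pow_left j).eq.symm
    obtain ⟨k, hk⟩ := hQp ⟨u, hcent huc⟩
    refine ⟨a + k, Subtype.ext ?_⟩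
    rw [pow_add, pow_mul, SubmonoidClass.coe_pow, ← hu]
    exact congrArg Subtype.val hk
  have hMQ : M ≤ Q := Solvable.le_pCore hMn hMp
  have : (S : Subgroup H) = Q := le_antisymm (hSM.trans hMQ) (hQsyl S)
  rw [this]
  exact hQn

end CfsgLib.OneInvolClass
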