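import Mathlib

/-!
Symmetric groups of degree `p ^ a ≡ 1 (mod q)` have no Hall subgroup for a set of primes containing `p` and `q`
but missing some prime at most the degree.
-/

namespace CfsgLib.PiHallSymm

open MulAction Equiv
open scoped Pointwise

variable {k q : ℕ}

/-- Translate the rows by the given amounts, fixing the extra point. -/
def rowHom (k q : ℕ) : Multiplicative (Fin k → ZMod q) →* Equiv.Perm (Option (Fin k × ZMod q)) where
  toFun f := Equiv.optionCongr (Equiv.prodShear (Equiv.refl (Fin k)) fun i => Equiv.addRight (f.toAdd i))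
  map_one' := by
    ext x : 1
    rcases x with _ | ⟨i, x⟩ <;> simp
  map_mul' f g := by
    ext x : 1
    rcases x with _ | ⟨i, x⟩
    · simp
    · simp [add_comm, add_left_comm]

theorem rowHom_none (f : Multiplicative (Fin k → ZMod q)) : rowHom k q f none = none := by simp [rowHom]

theorem rowHom_some (f : Fin k → ZMod q) (i : Fin k) (x : ZMod q) :
    rowHom k q (.ofAdd f) (some (i, x)) = some (i, x + f i) := by simp [rowHom]

theorem dvd_ncard_of_rows [NeZero q] (S : Set (Option (Fin k × ZMod q))) (h0 : none ∉ S)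
    (hS : ∀ i x y, some (i, x) ∈ S → some (i, y) ∈ S) : q ∣ S.ncard := by
  have h : S = some '' (({i | some (i, (0 : ZMod q)) ∈ S} : Set (Fin k)) ×ˢ (Set.univ : Set (ZMod q))) := by
    ext z
    rcases z with _ | ⟨i, x⟩
    · simp [h0]
    · simp only [Set.mem_image, Set.mem_prod, Set.mem_univ, and_true, Option.some.injEq, exists_eq_right,
        Set.mem_ofPred_eq]
      exact ⟨hS i x 0, hS i 0 x⟩
  rw [h, Set.ncard_image_of_injective _ (Option.some_injective _), Set.ncard_prod, Set.ncard_univ, Nat.card_zmod]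
  exact dvd_mul_left _ _

variable {H : Subgroup (Equiv.Perm (Option (Fin k × ZMod q)))}

theorem isPreprimitive_of_rows [NeZero q] (hq : 1 < q) (hE : (rowHom k q).range ≤ H)
    [IsPretransitive H (Option (Fin k × ZMod q))] : IsPreprimitive H (Option (Fin k × ZMod q)) := by
  refine IsPreprimitive.of_isTrivialBlock_base none fun {B} hB0 hB => ?_
  by_cases hBu : B = Set.univ
  · exact Or.inr hBu
  left
  obtain ⟨z, hz⟩ := (Set.ne_univ_iff_exists_notMem B).mp hBu
  obtain ⟨g, hg⟩ := exists_smul_eq H (none : Option (Fin k × ZMod q)) z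
  set B' := g • B with hB'
  have hne : g • B ≠ B := fun h => hz (h ▸ hg ▸ Set.smul_mem_smul_set hB0)
  have hdisj : Disjoint (g • B) B := (hB.smul_eq_or_disjoint g).resolve_left hne
  have hrowB : ∀ i x y, some (i, x) ∈ B → some (i, y) ∈ B := by
    intro i x y hx
    have h1 : rowHom k q (.ofAdd (Pi.single i (y - x))) ∈ H := hE ⟨_, rfl⟩
    have h2 : (⟨_, h1⟩ : H) • B = B := hB.smul_eq_of_mem hB0
      (by change rowHom k q _ none ∈ B; rw [rowHom_none]; exact hB0)
    rw [← h2]
    refine ⟨_, hx, ?_⟩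
    change rowHom k q _ _ = _
    rw [rowHom_some, Pi.single_eq_same, add_sub_cancel]
  have hd := dvd_ncard_of_rows (B \ {none}) (fun h => h.2 rfl)
    (fun i x y h => ⟨hrowB i x y h.1, Option.some_ne_none _⟩)
  have hcard : (B \ {none}).ncard + 1 = B.ncard := Set.ncard_sdiff_singleton_add_one hB0 B.toFinite
  have hcard' : B'.ncard = B.ncard := Set.ncard_smul_set g B
  have hn' : none ∉ B' := fun h => Set.disjoint_left.mp hdisj h hB0
  have hnd : ¬ q ∣ B'.ncard := by
    rw [hcard', ← hcard]
    intro h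
    exact Nat.lt_irrefl 1 (hq.trans_le (Nat.le_of_dvd one_pos ((Nat.dvd_add_right hd).mp h)))
  obtain ⟨i, x, y, hx, hy⟩ : ∃ i x y, some (i, x) ∈ B' ∧ some (i, y) ∉ B' := by
    by_contra h
    push Not at h
    exact hnd (dvd_ncard_of_rows B' hn' h)
  have h1 : rowHom k q (.ofAdd (Pi.single i (y - x))) ∈ H := hE ⟨_, rfl⟩
  have h2 : Disjoint ((⟨_, h1⟩ : H) • B') B' := by
    refine ((hB.translate g).smul_eq_or_disjoint _).resolve_left fun h => hy ?_
    change some (i, y) ∈ g • B
    rw [← h]
    refine ⟨_, hx, ?_⟩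
    change rowHom k q _ _ = _
    rw [rowHom_some, Pi.single_eq_same, add_sub_cancel]
  have hsub : B' ⊆ (fun w => some (i, w)) '' ({y}ᶜ : Set (ZMod q)) := by
    intro w hw
    rcases w with _ | ⟨j, w⟩
    · exact absurd hw hn'
    · by_cases hji : j = i
      · subst hji
        exact ⟨w, fun h => hy (h ▸ hw), rfl⟩
      · exfalso
        refine Set.disjoint_left.mp h2 ⟨_, hw, ?_⟩ hw
        change rowHom k q _ _ = _
        rw [rowHom_some, Pi.single_eq_of_ne hji, add_zero]
  have h3 : B'.ncard < q := by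
    refine (Set.ncard_le_ncard hsub (Set.toFinite _)).trans_lt ?_
    refine (Set.ncard_image_le (Set.toFinite _)).trans_lt ?_
    rw [Set.ncard_compl, Nat.card_zmod, Set.ncard_singleton]
    omega
  have h4 : (B \ {none}).ncard = 0 := Nat.eq_zero_of_dvd_of_lt hd (by omega)
  rw [← Set.ncard_le_one_iff_subsingleton]
  omega

theorem card_option_prod [NeZero q] : Nat.card (Option (Fin k × ZMod q)) = k * q + 1 := by
  rw [Finite.card_option, Nat.card_prod, Nat.card_fin, Nat.card_zmod]

theorem isMultiplyPretransitive_two_of_rows [NeZero q] (hq : 1 < q) (hk : 0 < k) (hE : (rowHom k q).range ≤ H)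
    [IsPretransitive H (Option (Fin k × ZMod q))] :
    IsMultiplyPretransitive H (Option (Fin k × ZMod q)) 2 := by
  have hprim := isPreprimitive_of_rows hq hE
  set i : Fin k := ⟨0, hk⟩
  set s : Set (Option (Fin k × ZMod q)) := (Set.range fun w => some (i, w))ᶜ with hs
  have hsn : s.ncard = (k * q + 1 - q - 1) + 1 := by
    rw [hs, Set.ncard_compl, card_option_prod, Set.ncard_range_of_injective, Nat.card_zmod]
    · have : q ≤ k * q := Nat.le_mul_of_pos_left q hk
      omega
    · intro a b h; simpa using h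
  refine hprim.is_two_pretransitive hsn ?_ ⟨fun a b => ?_⟩
  · rw [card_option_prod]
    have : q ≤ k * q := Nat.le_mul_of_pos_left q hk
    omega
  · obtain ⟨x, hx⟩ : (a : Option (Fin k × ZMod q)) ∈ Set.range fun w => some (i, w) := Set.not_notMem.mp a.2
    obtain ⟨y, hy⟩ : (b : Option (Fin k × ZMod q)) ∈ Set.range fun w => some (i, w) := Set.not_notMem.mp b.2
    have h1 : rowHom k q (.ofAdd (Pi.single i (y - x))) ∈ H := hE ⟨_, rfl⟩
    refine ⟨⟨⟨_, h1⟩, ?_⟩, Subtype.ext ?_⟩
    · rw [mem_fixingSubgroup_iff]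
      intro w hw
      change rowHom k q _ w = w
      rcases w with _ | ⟨j, w⟩
      · exact rowHom_none _
      · have hji : j ≠ i := fun h => hw ⟨w, by rw [h]⟩
        rw [rowHom_some, Pi.single_eq_of_ne hji, add_zero]
    · change rowHom k q _ (a : Option (Fin k × ZMod q)) = b
      rw [← hx, ← hy, rowHom_some, Pi.single_eq_same, add_sub_cancel]

theorem isPretransitive_of_not_dvd_index {α : Type*} [Finite α] {p a : ℕ} (hp : p.Prime) (hα : Nat.card α = p ^ a)
    (H : Subgroup (Equiv.Perm α)) (hH : ¬ p ∣ H.index) : IsPretransitive H α := by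
  classical
  haveI : Nonempty α := Finite.card_pos_iff.mp (by rw [hα]; exact pow_pos hp.pos a)
  obtain ⟨x⟩ := ‹Nonempty α›
  have h1 : Nat.card (orbit H x) * Nat.card (stabilizer H x) = Nat.card H := by
    rw [Nat.card_congr (orbitEquivQuotientStabilizer H x), ← Subgroup.card_eq_card_quotient_mul_card_subgroup]
  have h2 : (stabilizer (Equiv.Perm α) x).index = Nat.card α := by
    rw [index_stabilizer_of_transitive]
  have h3 := (stabilizer (Equiv.Perm α) x).card_mul_index
  have h4 : Nat.card (stabilizer H x) ∣ Nat.card (stabilizer (Equiv.Perm α) x) := by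
    refine (dvd_of_eq ?_).trans (Subgroup.card_dvd_of_le (H := (stabilizer H x).map H.subtype) ?_)
    · rw [Subgroup.card_map_of_injective H.subtype_injective]
    · rintro _ ⟨h, hh, rfl⟩; exact hh
  obtain ⟨t, ht⟩ := h4
  have h5 : Nat.card (orbit H x) * H.index = p ^ a * t := by
    have h6 := H.card_mul_index
    rw [← h3, h2, hα, ← h1, ht] at h6
    refine Nat.eq_of_mul_eq_mul_right (Nat.card_pos (α := stabilizer H x)) ?_
    linarith
  have h7 : p ^ a ∣ Nat.card (orbit H x) :=
    (Nat.Coprime.pow_left a (hp.coprime_iff_not_dvd.mpr hH)).dvd_of_dvd_mul_right ⟨t, h5⟩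
  rw [isPretransitive_iff_orbit_eq_univ x]
  refine (orbit H x).eq_univ_iff_ncard.mpr ?_
  rw [← Nat.card_coe_set_eq]
  refine le_antisymm (by simpa using Finite.card_subtype_le (fun y => y ∈ orbit H x)) ?_
  rw [hα]
  haveI : Nonempty (orbit H x) := ⟨⟨x, mem_orbit_self x⟩⟩
  exact Nat.le_of_dvd Nat.card_pos h7

/-- With `q = 2` the row group contains a transposition. -/
theorem exists_swap {H : Subgroup (Equiv.Perm (Option (Fin k × ZMod 2)))} (hk : 0 < k)
    (hE : (rowHom k 2).range ≤ H) : ∃ g ∈ H, g.IsSwap := by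
  set i : Fin k := ⟨0, hk⟩
  refine ⟨_, hE ⟨.ofAdd (Pi.single i 1), rfl⟩, some (i, 0), some (i, 1), by simp, ?_⟩
  ext x : 1
  rcases x with _ | ⟨j, x⟩
  · rw [rowHom_none, Equiv.swap_apply_of_ne_of_ne (Option.some_ne_none _).symm (Option.some_ne_none _).symm]
  · rw [rowHom_some]
    by_cases hji : j = i
    · subst hji
      rw [Pi.single_eq_same]
      fin_cases x
      · change _ = Equiv.swap _ _ (some (_, (0 : ZMod 2)))
        rw [Equiv.swap_apply_left]; simp; rfl
      · change _ = Equiv.swap _ _ (some (_, (1 : ZMod 2)))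
        rw [Equiv.swap_apply_right]; simp; rfl
    · rw [Pi.single_eq_of_ne hji, add_zero,
        Equiv.swap_apply_of_ne_of_ne (by simp [hji]) (by simp [hji])]

end CfsgLib.PiHallSymm
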