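import Mathlib
import Cfsg.Agent.S4341
import Cfsg.Agent.S4343
import Cfsg.Agent.S4700
import Cfsg.Agent.S3933
import Cfsg.Agent.Lib.Solvable.CoprimeAction
import Cfsg.Agent.Lib.FGStruct.HallPQ
import Cfsg.Agent.Lib.Fusion.PSolvAut
import Cfsg.Agent.Lib.Linear.Card

/-!
Sylow numbers below the square of the prime: prime powers in `p`-solvable groups, and the
arithmetic excluding prime powers for simple groups other than `PSL(2, p)`.
-/

set_option autoImplicit false

namespace CfsgLib.SylowBelowSq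

open Cfsg

theorem eq_one_or_gt {p m : ℕ} (h : m % p = 1) : m = 1 ∨ p < m := by
  have h1 := Nat.div_add_mod m p
  rcases Nat.eq_zero_or_pos (m / p) with h0 | h0
  · left; rw [h0] at h1; omega
  · right
    have : p * 1 ≤ p * (m / p) := Nat.mul_le_mul_left p h0
    omega

theorem mul_eq {p a b : ℕ} (ha : a % p = 1) (hb : b % p = 1) (h : a * b < p ^ 2) : a = 1 ∨ b = 1 := by
  rcases eq_one_or_gt ha with h1 | h1
  · exact Or.inl h1
  rcases eq_one_or_gt hb with h2 | h2
  · exact Or.inr h2
  nlinarith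

/-- A number below `p²` whose prime parts are `1` modulo `p` is a prime power. -/
theorem eq_prime_pow {p n : ℕ} (hn0 : n ≠ 0) (hn : n < p ^ 2)
    (h : ∀ q : ℕ, q.Prime → q ^ n.factorization q % p = 1) : ∃ q k : ℕ, q.Prime ∧ n = q ^ k := by
  by_cases h1 : n = 1
  · exact ⟨2, 0, Nat.prime_two, by simpa using h1⟩
  set q := n.minFac with hq
  have hqp : q.Prime := Nat.minFac_prime h1
  refine ⟨q, n.factorization q, hqp, ?_⟩
  by_contra hne
  have hm : n / q ^ n.factorization q ≠ 1 := fun h2 => hne (by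
    have := Nat.ordProj_mul_ordCompl_eq_self n q
    rw [h2, mul_one] at this
    exact this.symm)
  obtain ⟨r, hr, hrd⟩ := Nat.exists_prime_and_dvd hm
  have hrn : r ∣ n := hrd.trans (Nat.ordCompl_dvd n q)
  have hrq : r ≠ q := fun e => Nat.not_dvd_ordCompl hqp hn0 (e ▸ hrd)
  have hd : q ^ n.factorization q * r ^ n.factorization r ∣ n :=
    Nat.Coprime.mul_dvd_of_dvd_of_dvd (Nat.Coprime.pow _ _ ((Nat.coprime_primes hqp hr).2 hrq.symm))
      (Nat.ordProj_dvd n q) (Nat.ordProj_dvd n r)
  have hle := Nat.le_of_dvd (Nat.pos_of_ne_zero hn0) hd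
  rcases mul_eq (h q hqp) (h r hr) (lt_of_le_of_lt hle hn) with e | e
  · exact (hqp.factorization_pos_of_dvd hn0 (Nat.minFac_dvd n)).ne'
      ((Nat.pow_eq_one.1 e).resolve_left hqp.ne_one)
  · exact (hr.factorization_pos_of_dvd hn0 hrn).ne' ((Nat.pow_eq_one.1 e).resolve_left hr.ne_one)

/-- Orbits of a Sylow subgroup on a normal `p'`-subgroup: every prime part of `|K : N_K(P)|` is `1` mod `p`. -/
theorem relIndex_part_mod {G : Type*} [Group G] [Finite G] {p : ℕ} [hp : Fact p.Prime] (P : Sylow p G)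
    (K : Subgroup G) [hK : K.Normal] (hPK : (P : Subgroup G) ⊓ K = ⊥)
    (hcop : (Nat.card (P : Subgroup G)).Coprime (Nat.card K)) (q : ℕ) (hq : q.Prime) :
    q ^ ((Subgroup.normalizer ((P : Subgroup G) : Set G)).relIndex K).factorization q % p = 1 := by
  set NP := Subgroup.normalizer ((P : Subgroup G) : Set G) with hNP
  have hKn : (P : Subgroup G) ≤ Subgroup.normalizer (K : Set G) := by
    rw [Subgroup.normalizer_eq_top]; exact le_top
  haveI : Fact q.Prime := ⟨hq⟩
  set C := NP ⊓ K with hC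
  have hcomm : ∀ a ∈ (P : Subgroup G), ∀ c ∈ C, a * c = c * a := by
    intro a ha c hc
    have h1 : a * c * a⁻¹ * c⁻¹ ∈ (P : Subgroup G) ⊓ K := by
      refine ⟨?_, K.mul_mem (hK.conj_mem c hc.2 a) (K.inv_mem hc.2)⟩
      have e : a * c * a⁻¹ * c⁻¹ = a * (c * a⁻¹ * c⁻¹) := by group
      show a * c * a⁻¹ * c⁻¹ ∈ (P : Subgroup G)
      rw [e]
      exact mul_mem ha ((Subgroup.mem_normalizer_iff.1 hc.1 a⁻¹).1 (inv_mem ha))
    rw [hPK, Subgroup.mem_bot, mul_inv_eq_one, mul_inv_eq_iff_eq_mul] at h1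
    exact h1
  obtain ⟨R⟩ := (inferInstance : Nonempty (Sylow q C))
  have hPsolv : Group.IsSolvable (P : Subgroup G) := by
    have := P.isPGroup'.isNilpotent
    infer_instance
  set U := (R : Subgroup C).map C.subtype with hU
  have hUC : U ≤ C := Subgroup.map_subtype_le _
  have hUA : (P : Subgroup G) ≤ Subgroup.normalizer (U : Set G) := by
    intro a ha
    rw [Subgroup.mem_normalizer_iff]
    intro u
    constructor
    · intro hu
      rw [hcomm a ha u (hUC hu), mul_assoc, mul_inv_cancel, mul_one]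
      exact hu
    · intro hu
      have := hcomm a⁻¹ (inv_mem ha) _ (hUC hu)
      have e : u = a⁻¹ * (a * u * a⁻¹) * a := by group
      rw [e, this, mul_assoc, inv_mul_cancel, mul_one]
      exact hu
  obtain ⟨Q, hUQ, hQn⟩ := CfsgLib.Solvable.exists_invariant_sylow_ge hKn hcop (Or.inl hPsolv) q
    (hUC.trans inf_le_right) (R.isPGroup'.map _) hUA
  set Q' := (Q : Subgroup K).map K.subtype with hQ'
  have hQK : Q' ≤ K := Subgroup.map_subtype_le _
  have hUeq : NP ⊓ Q' = U := by
    apply le_antisymm _ (le_inf (hUC.trans inf_le_left) hUQ)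
    have hle : NP ⊓ Q' ≤ C := inf_le_inf_left _ hQK
    have h1 : (R : Subgroup C) ≤ (NP ⊓ Q').subgroupOf C := fun r hr =>
      Subgroup.mem_inf.2 ⟨(r.2 : (r : G) ∈ C).1, hUQ (Subgroup.mem_map_of_mem _ hr)⟩
    have hp' : IsPGroup q ↥((NP ⊓ Q').subgroupOf C) :=
      ((Q.isPGroup'.map K.subtype).to_le inf_le_right).of_equiv (Subgroup.subgroupOfEquivOfLe hle).symm
    have h2 := R.is_maximal' hp' h1
    intro x hx
    have : (⟨x, hle hx⟩ : C) ∈ (R : Subgroup C) := by rw [← h2]; exact hx
    exact ⟨_, this, rfl⟩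
  have hcardU : Nat.card U = q ^ (Nat.card C).factorization q := by
    rw [hU, Subgroup.card_subtype]; exact R.card_eq_multiplicity
  have hcardQ : Nat.card Q' = q ^ (Nat.card K).factorization q := by
    rw [hQ', Subgroup.card_subtype]; exact Q.card_eq_multiplicity
  have hmulK : Nat.card C * NP.relIndex K = Nat.card K := by
    rw [hC, ← Subgroup.relIndex_bot_left, ← Subgroup.inf_relIndex_right NP K,
      Subgroup.relIndex_mul_relIndex _ _ _ bot_le inf_le_right, Subgroup.relIndex_bot_left]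
  have hmulQ : Nat.card U * NP.relIndex Q' = Nat.card Q' := by
    rw [← hUeq, ← Subgroup.relIndex_bot_left, ← Subgroup.inf_relIndex_right NP Q',
      Subgroup.relIndex_mul_relIndex _ _ _ bot_le inf_le_right, Subgroup.relIndex_bot_left]
  have hfac : (Nat.card K).factorization q = (Nat.card C).factorization q + (NP.relIndex K).factorization q := by
    rw [← hmulK, Nat.factorization_mul Nat.card_pos.ne'
      (show NP.relIndex K ≠ 0 from (NP.subgroupOf K).index_ne_zero_of_finite), Finsupp.add_apply]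
  rw [hcardU, hcardQ, hfac, pow_add] at hmulQ
  have hX := Nat.eq_of_mul_eq_mul_left (pow_pos hq.pos _) hmulQ
  rw [← hX]
  have hs : Nat.card (Sylow p ↥((P : Subgroup G) ⊔ Q')) = NP.relIndex Q' := by
    rw [Cfsg.Agent.S4341.card_sylow_relIndex _
      (P.subtype (le_sup_left : (P : Subgroup G) ≤ (P : Subgroup G) ⊔ Q')),
      Sylow.coe_subtype, Subgroup.map_subgroupOf_eq_of_le le_sup_left]
    apply Cfsg.Agent.S4341.relIndex_eq_of_forall_exists le_sup_right
    intro b hb
    rw [← SetLike.mem_coe, Subgroup.coe_mul_of_left_le_normalizer_right _ _ hQn] at hb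
    obtain ⟨a, ha, c, hc, rfl⟩ := hb
    refine ⟨a * c * a⁻¹, (Subgroup.mem_normalizer_iff.1 (hQn ha) c).1 hc, ?_⟩
    have e : (a * c * a⁻¹)⁻¹ * (a * c) = a := by group
    show (a * c * a⁻¹)⁻¹ * (a * c) ∈ _
    rw [e]
    exact Subgroup.le_normalizer ha
  rw [← hs, show Nat.card (Sylow p ↥((P : Subgroup G) ⊔ Q')) % p = 1 % p from card_sylow_modEq_one p _]
  exact Nat.one_mod_eq_one.2 hp.out.ne_one

/-- The Sylow number through a normal subgroup meeting `P` normally. -/
theorem card_sylow_eq_mul {G : Type*} [Group G] [Finite G] {p : ℕ} [Fact p.Prime] (P : Sylow p G)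
    (K : Subgroup G) [hK : K.Normal] :
    Nat.card (Sylow p G) =
      Nat.card (Sylow p (G ⧸ K)) * (Subgroup.normalizer ((P : Subgroup G) : Set G)).relIndex K := by
  set NP := Subgroup.normalizer ((P : Subgroup G) : Set G) with hNP
  set L := (P : Subgroup G) ⊔ K with hL
  set B := Subgroup.normalizer (L : Set G) with hB
  have hNPB : NP ≤ B := by
    intro g hg
    rw [hB, Subgroup.mem_normalizer_iff_map_conj_eq, hL, Subgroup.map_sup]
    congr 1
    · exact Subgroup.mem_normalizer_iff_map_conj_eq.1 hg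
    · exact Subgroup.mem_normalizer_iff_map_conj_eq.1
        (by rw [Subgroup.normalizer_eq_top]; exact Subgroup.mem_top g)
  have h2 : NP.relIndex B = NP.relIndex K := by
    apply Cfsg.Agent.S4341.relIndex_eq_of_forall_exists (le_sup_right.trans Subgroup.le_normalizer)
    intro b hb
    have hPL : (P : Subgroup G) ≤ L := le_sup_left
    have hbP : ((b • P : Sylow p G) : Subgroup G) ≤ L := by
      rintro y ⟨z, hz, rfl⟩
      exact (hb z).1 (hPL hz)
    obtain ⟨l, hl⟩ := MulAction.exists_smul_eq L (P.subtype hPL) ((b • P).subtype hbP)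
    rw [Sylow.smul_subtype] at hl
    have h3 : (l : G) • P = b • P := Sylow.subtype_injective hl
    have hlmem : (l : G) ∈ K ⊔ (P : Subgroup G) := by
      rw [sup_comm]; exact l.2
    obtain ⟨k, hk, y, hy, hky⟩ :=
      (Subgroup.mem_sup_of_normal_left (s := K) (t := (P : Subgroup G))).1 hlmem
    refine ⟨k, hk, Sylow.smul_eq_iff_mem_normalizer.1 ?_⟩
    rw [mul_smul, ← h3, ← mul_smul, ← hky, inv_mul_cancel_left]
    exact Sylow.smul_eq_iff_mem_normalizer.2 (Subgroup.le_normalizer hy)
  rw [Cfsg.Agent.S4341.card_sylow_quotient_normal K P, P.card_eq_index_normalizer, ← h2, ← hB,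
    mul_comm, Subgroup.relIndex_mul_index hNPB]
  rfl

theorem prime_pow_of_pSolvable (n : ℕ) : ∀ (G : Type*) [Group G] [Finite G] (p : ℕ) [Fact p.Prime],
    Nat.card G = n → Cfsg.IsPSolvable p G → Nat.card (Sylow p G) < p ^ 2 →
    ∃ q k : ℕ, q.Prime ∧ Nat.card (Sylow p G) = q ^ k := by
  induction n using Nat.strong_induction_on with
  | _ n ih =>
    intro G _ _ p hp hn hs hlt
    rcases subsingleton_or_nontrivial G with h | h
    · have : Subsingleton (Sylow p G) := ⟨fun A B => Sylow.ext (Subsingleton.elim _ _)⟩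
      exact ⟨2, 0, Nat.prime_two, by rw [Nat.card_unique, pow_zero]⟩
    obtain ⟨K, hKn, hK1, hK⟩ := CfsgLib.FGStruct.HallPQ.exists_normal hs
    haveI := hKn
    obtain ⟨P⟩ := (inferInstance : Nonempty (Sylow p G))
    have hmul := card_sylow_eq_mul P K
    have hq : Cfsg.IsPSolvable p (G ⧸ K) :=
      CfsgLib.PLoc.isPSolvable_of_surjective (QuotientGroup.mk'_surjective K) hs
    have hlt1 : Nat.card (G ⧸ K) < n := by
      have := Subgroup.card_eq_card_quotient_mul_card_subgroup K
      have h1 : 0 < Nat.card (G ⧸ K) := Nat.card_pos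
      have := (Subgroup.one_lt_card_iff_ne_bot K).2 hK1
      nlinarith
    set NP := Subgroup.normalizer ((P : Subgroup G) : Set G) with hNP
    have hone : 1 % p = 1 := Nat.one_mod_eq_one.2 hp.out.ne_one
    have hm1 : Nat.card (Sylow p (G ⧸ K)) % p = 1 := by
      rw [show Nat.card (Sylow p (G ⧸ K)) % p = 1 % p from card_sylow_modEq_one p _, hone]
    have hm2 : NP.relIndex K % p = 1 := by
      have := card_sylow_modEq_one p G
      rw [Nat.ModEq, hmul, Nat.mul_mod, hm1, one_mul, Nat.mod_mod, hone] at this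
      exact this
    rcases mul_eq hm1 hm2 (hmul ▸ hlt) with e | e
    · rw [hmul, e, one_mul] at hlt ⊢
      rcases hK with ⟨m, hm⟩ | hc
      · refine ⟨2, 0, Nat.prime_two, ?_⟩
        rw [pow_zero, Subgroup.relIndex_eq_one]
        obtain ⟨P', hP'⟩ := (IsPGroup.of_card hm).exists_le_sylow
        obtain ⟨g, hg⟩ := MulAction.exists_smul_eq G P' P
        intro x hx
        refine Subgroup.le_normalizer ?_
        rw [← hg, Sylow.coe_subgroup_smul, Subgroup.mem_pointwise_smul_iff_inv_smul_mem]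
        exact hP' (by simpa [mul_assoc] using hKn.conj_mem x hx g⁻¹)
      · have hcop : (Nat.card (P : Subgroup G)).Coprime (Nat.card K) := by
          rw [P.card_eq_multiplicity]; exact Nat.Coprime.pow_left _ hc.symm
        exact eq_prime_pow (NP.subgroupOf K).index_ne_zero_of_finite hlt
          (relIndex_part_mod P K (Subgroup.inf_eq_bot_of_coprime hcop) hcop)
    · rw [hmul, e, mul_one] at hlt ⊢
      exact ih _ hlt1 (G ⧸ K) p rfl hq hlt

/-- No prime power has the third shape in Brauer's theorem below `p²`. -/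
theorem no_form {p r h u q k : ℕ} (hrp : r < p) (hh : 0 < h) (hu : 0 < u) (hq : q.Prime)
    (he : r * (u + 1) = h * u * p + u ^ 2 + u + h) (hn : 1 + r * p = q ^ k) : False := by
  have h1 : r * (u + 1) ≤ (p - 1) * (u + 1) := Nat.mul_le_mul_right _ (by omega)
  obtain ⟨p', rfl⟩ : ∃ p', p = p' + 1 := ⟨p - 1, by omega⟩
  simp only [Nat.add_sub_cancel] at h1
  have hh1 : h = 1 := by
    by_contra hne
    have h2 : 2 * (u * (p' + 1)) ≤ h * (u * (p' + 1)) := Nat.mul_le_mul_right _ (by omega)
    nlinarith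
  subst hh1
  have hur : u ≤ r := by nlinarith
  obtain ⟨s, rfl⟩ := Nat.exists_eq_add_of_le hur
  have hs : s * (u + 1) = u * (p' + 1) + 1 := by nlinarith
  have hsp : s ≤ p' + 1 := by nlinarith
  obtain ⟨d, hd⟩ := Nat.exists_eq_add_of_le hsp
  have hd1 : d * (u + 1) = p' := by nlinarith
  have hud : u < d := by omega
  have hsval : s = d * u + 1 := by nlinarith
  have hfac : (p' + 1 + u + 1) * s = q ^ k := by
    rw [← hn]; nlinarith
  obtain ⟨a, -, ha⟩ := (Nat.dvd_prime_pow hq).1 (Dvd.intro _ hfac)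
  obtain ⟨b, -, hb⟩ := (Nat.dvd_prime_pow hq).1 (Dvd.intro_left _ hfac)
  have hab : b ≤ a := by
    refine (Nat.pow_le_pow_iff_right hq.one_lt).1 ?_
    rw [← ha, ← hb]; omega
  have hdvd : s ∣ p' + 1 + u + 1 := by rw [ha, hb]; exact pow_dvd_pow q hab
  have hdvd2 : s ∣ d + u + 1 := by
    rw [hd, show s + d + u + 1 = s + (d + u + 1) by ring] at hdvd
    exact (Nat.dvd_add_right dvd_rfl).1 hdvd
  rcases Nat.lt_or_ge u 2 with h3 | h3
  · obtain rfl : u = 1 := by omega
    have h4 : s ∣ 1 := by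
      have e : d + 1 + 1 = s + 1 := by rw [hsval, mul_one]
      rw [e] at hdvd2
      exact (Nat.dvd_add_right dvd_rfl).1 hdvd2
    rw [Nat.dvd_one] at h4
    omega
  · have h4 := Nat.le_of_dvd (by omega) hdvd2
    nlinarith

theorem prime_add_one_two {p q k : ℕ} (hp : p.Prime) (hp3 : 3 < p) (hq : q.Prime) (h : p + 1 = q ^ k) :
    p + 1 = 2 ^ k := by
  have h2 : 2 ∣ q ^ k := by
    rw [← h]
    have := hp.odd_of_ne_two (by omega)
    obtain ⟨t, rfl⟩ := this
    exact ⟨t + 1, by ring⟩
  rw [h, (Nat.prime_dvd_prime_iff_eq Nat.prime_two hq).1 (Nat.prime_two.dvd_of_dvd_pow h2)]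

/-- A simple group with few Sylow subgroups, their number a prime power. -/
theorem false_of_simple {S : Type*} [Group S] [Finite S] [IsSimpleGroup S] (hS : ¬ IsMulCommutative S)
    {p : ℕ} [hp : Fact p.Prime] (hpS : p ∣ Nat.card S) (hn : Nat.card (Sylow p S) < p ^ 2)
    (hmer : ¬ (3 < p ∧ ∃ k : ℕ, p + 1 = 2 ^ k)) {q k : ℕ} (hq : q.Prime)
    (hqk : Nat.card (Sylow p S) = q ^ k) : False := by
  have hp1 := hp.out.two_le
  obtain ⟨P⟩ := (inferInstance : Nonempty (Sylow p S))
  have hP := Cfsg.Agent.S4343.result hS p hpS hn P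
  have hperf : commutator S = ⊤ := by
    rcases (Subgroup.commutator_normal (⊤ : Subgroup S) ⊤).eq_bot_or_eq_top with h | h
    · exfalso; refine hS ⟨⟨fun a b => ?_⟩⟩
      have := Subgroup.commutator_mem_commutator (Subgroup.mem_top a) (Subgroup.mem_top b)
      rw [h, Subgroup.mem_bot] at this
      exact commutatorElement_eq_one_iff_mul_comm.1 this
    · exact h
  obtain ⟨r, hr⟩ : ∃ r, Nat.card (Sylow p S) = 1 + r * p := by
    refine ⟨Nat.card (Sylow p S) / p, ?_⟩
    have h1 : Nat.card (Sylow p S) % p = 1 := by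
      rw [show Nat.card (Sylow p S) % p = 1 % p from card_sylow_modEq_one p _]
      exact Nat.one_mod_eq_one.2 hp.out.ne_one
    have := Nat.div_add_mod (Nat.card (Sylow p S)) p
    rw [mul_comm]; omega
  have hr0 : 0 < r := by
    rcases Nat.eq_zero_or_pos r with rfl | h
    · exfalso
      have h1 : (Subgroup.normalizer ((P : Subgroup S) : Set S)).index = 1 := by
        have h0 := P.card_eq_index_normalizer
        rw [hr, zero_mul, add_zero] at h0
        exact h0.symm
      rw [Subgroup.index_eq_one, Subgroup.normalizer_eq_top_iff] at h1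
      rcases h1.eq_bot_or_eq_top with h | h
      · exact P.ne_bot_of_dvd_card hpS h
      · have hcard : Nat.card S = p := by
          rw [← Subgroup.card_top (G := S), ← h]; exact hP
        haveI := isCyclic_of_prime_card hcard
        exact hS (IsCyclic.isMulCommutative (α := S))
    · exact h
  have hrp : r < p := by
    by_contra h
    push Not at h
    have : p * p ≤ r * p := Nat.mul_le_mul_right p h
    rw [hr] at hn; nlinarith
  have hnp : p + 1 ≤ Nat.card (Sylow p S) := by rw [hr]; nlinarith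
  have hcop : (Nat.card (Sylow p S)).Coprime p := by
    rw [hr]; simp
  have hdvdS : Nat.card (Sylow p S) ∣ Nat.card S := by
    rw [P.card_eq_index_normalizer]; exact Subgroup.index_dvd_card _
  have hcore : Cfsg.pPrimeCore p S = ⊥ := by
    haveI := CfsgLib.Solvable.pPrimeCore_characteristic p S
    rcases (inferInstance : (Cfsg.pPrimeCore p S).Normal).eq_bot_or_eq_top with h | h
    · exact h
    · exfalso
      have h1 := CfsgLib.Solvable.pPrimeCore_card_coprime p S
      rw [h, Subgroup.card_top] at h1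
      exact hp.out.ne_one (Nat.eq_one_of_dvd_coprimes h1 hpS dvd_rfl)
  rcases Cfsg.Agent.S4700.result hperf p P hP r hr with
    ⟨F, _, _, hF, h3, ⟨e⟩⟩ | ⟨m, F, _, _, hF, hpm, h3, ⟨e⟩⟩ | ⟨h, u, hh, hu, he⟩
  · have hodd := hp.out.odd_of_ne_two (by omega)
    have hcard : Nat.card S = Nat.card (Matrix.ProjectiveSpecialLinearGroup (Fin 2) F) :=
      Nat.card_congr ((QuotientGroup.quotientBot (G := S)).symm.trans
        ((QuotientGroup.quotientMulEquivOfEq hcore.symm).trans e)).toEquiv
    have hd : Nat.card (Sylow p S) ∣ p * (p ^ 2 - 1) := by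
      have h1 := CfsgLib.Linear.card_PSL_mul (n := Fin 2) (F := F)
      rw [CfsgLib.Linear.card_SL_two, Fintype.card_fin, hF, ← hcard] at h1
      exact h1 ▸ hdvdS.mul_left _
    obtain ⟨c, hc⟩ := hcop.dvd_of_dvd_mul_left hd
    have hsq : 1 ≤ p ^ 2 := Nat.one_le_pow _ _ hp.out.pos
    rw [hr] at hnp hc
    have hc' : (1 + r * p) * c + 1 = p ^ 2 := by omega
    have hcp : c < p := by
      by_contra hcc
      push Not at hcc
      have : (p + 1) * p ≤ (1 + r * p) * c := Nat.mul_le_mul hnp hcc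
      nlinarith
    have hdiv : p ∣ c + 1 := by
      have h5 : p ∣ (1 + r * p) * c + 1 := hc' ▸ dvd_pow_self p two_ne_zero
      rw [show (1 + r * p) * c + 1 = (c + 1) + p * (r * c) by ring] at h5
      exact (Nat.dvd_add_left (Dvd.intro _ rfl)).1 h5
    have hcp1 : c + 1 = p := le_antisymm hcp (Nat.le_of_dvd (by omega) hdiv)
    have hr1 : r = 1 := by
      by_contra hne
      have h5 : (1 + 2 * p) * c ≤ (1 + r * p) * c :=
        Nat.mul_le_mul_right c (Nat.add_le_add_left (Nat.mul_le_mul_right p (by omega)) 1)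
      nlinarith
    refine hmer ⟨h3, k, prime_add_one_two hp.out h3 hq ?_⟩
    rw [← hqk, hr, hr1]; ring
  · have hcard : Nat.card S = Nat.card (Matrix.SpecialLinearGroup (Fin 2) F) :=
      Nat.card_congr ((QuotientGroup.quotientBot (G := S)).symm.trans
        ((QuotientGroup.quotientMulEquivOfEq hcore.symm).trans e)).toEquiv
    rw [CfsgLib.Linear.card_SL_two, hF] at hcard
    set M := 2 ^ m with hM
    have hM2 : M ^ 2 - 1 = p * (M - 1) := by
      rw [hpm, ← Nat.sq_sub_sq M 1, one_pow]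
    rw [hM2] at hcard
    have hd : Nat.card (Sylow p S) ∣ p * (M * (M - 1)) := by
      rw [show p * (M * (M - 1)) = M * (p * (M - 1)) by ring, ← hcard]; exact hdvdS
    obtain ⟨c, hc⟩ := hcop.dvd_of_dvd_mul_left hd
    obtain ⟨M', hM'⟩ : ∃ M', M = M' + 1 := ⟨M - 1, by omega⟩
    rw [hr] at hnp hc
    rw [hM', Nat.add_sub_cancel] at hc
    have hcp : c < p := by
      by_contra hcc
      push Not at hcc
      have h5 : (p + 1) * p ≤ (1 + r * p) * c := Nat.mul_le_mul hnp hcc
      have h6 : p = M' + 2 := by omega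
      rw [← hc, h6] at h5
      nlinarith
    have hc2 : c = 2 := by
      have h5 : p ∣ (1 + r * p) * c + 2 * (M' + 1) + 0 := by
        rw [← hc]; exact ⟨M' + 1, by rw [show p = M' + 2 by omega]; ring⟩
      have h7 : ((c : ZMod p)) = 2 := by
        have h8 := congrArg (Nat.cast : ℕ → ZMod p) hc
        have h9 : ((M' + 2 : ℕ) : ZMod p) = 0 := by
          rw [show M' + 2 = p by omega]; exact ZMod.natCast_self p
        push_cast at h8 h9
        rw [ZMod.natCast_self] at h8
        have h10 : (M' : ZMod p) = -2 := eq_neg_of_add_eq_zero_left h9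
        rw [h10] at h8
        linear_combination -h8
      have h8 := (ZMod.natCast_eq_natCast_iff' c 2 p).1 (by exact_mod_cast h7)
      rw [Nat.mod_eq_of_lt hcp, Nat.mod_eq_of_lt (by omega : 2 < p)] at h8
      exact h8
    subst hc2
    rw [← hr, hqk] at hc
    have hm2 : 2 ≤ m := by
      by_contra hm
      have : M ≤ 2 ^ 1 := Nat.pow_le_pow_right (by norm_num) (by omega)
      omega
    have hq2 : q = 2 := by
      have h5 : 2 ^ 2 ∣ (M' + 1) * M' := Dvd.dvd.mul_right (hM' ▸ pow_dvd_pow 2 hm2) _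
      rw [hc] at h5
      have h6 : 2 ∣ q ^ k := Nat.dvd_of_mul_dvd_mul_right (by norm_num : 0 < 2) (by simpa using h5)
      exact ((Nat.prime_dvd_prime_iff_eq Nat.prime_two hq).1 (Nat.prime_two.dvd_of_dvd_pow h6)).symm
    subst hq2
    obtain ⟨i, -, hi⟩ := (Nat.dvd_prime_pow Nat.prime_two).1
      (show M' ∣ 2 ^ (k + 1) from ⟨M' + 1, by rw [pow_succ, ← hc]; ring⟩)
    rcases i with _ | i
    · rw [pow_zero] at hi; omega
    · have h5 : 2 ∣ M' + 1 := hM' ▸ dvd_pow_self 2 (by omega)
      have h6 : 2 ∣ M' := hi ▸ dvd_pow_self 2 (by omega)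
      omega
  · exact no_form hrp hh hu hq he (hr ▸ hqk)

theorem pSolvable_of_prime_pow (n : ℕ) : ∀ (G : Type*) [Group G] [Finite G] (p : ℕ) [Fact p.Prime],
    Nat.card G = n → ¬ (3 < p ∧ ∃ k : ℕ, p + 1 = 2 ^ k) → Nat.card (Sylow p G) < p ^ 2 →
    (∃ q k : ℕ, q.Prime ∧ Nat.card (Sylow p G) = q ^ k) → Cfsg.IsPSolvable p G := by
  induction n using Nat.strong_induction_on with
  | _ n ih =>
    intro G _ _ p hp hn hmer hlt hqk
    obtain ⟨q, k, hq, hqk⟩ := hqk
    by_cases hN : ∃ N : Subgroup G, N.Normal ∧ N ≠ ⊥ ∧ N ≠ ⊤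
    · obtain ⟨N, hNn, hNb, hNt⟩ := hN
      haveI := hNn
      have hmul := Subgroup.card_eq_card_quotient_mul_card_subgroup N
      have h1 : 1 < Nat.card N := (Subgroup.one_lt_card_iff_ne_bot N).2 hNb
      have h2 : 0 < Nat.card (G ⧸ N) := Nat.card_pos
      have hd1 := Cfsg.Agent.S3933.card_sylow_normal_dvd p N
      have hd2 := Cfsg.Agent.S3933.card_sylow_quotient_dvd p N
      have hpow : ∀ {a : ℕ}, a ∣ Nat.card (Sylow p G) → ∃ q k : ℕ, q.Prime ∧ a = q ^ k := fun {a} ha => by
        obtain ⟨i, -, hi⟩ := (Nat.dvd_prime_pow hq).1 (hqk ▸ ha)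
        exact ⟨q, i, hq, hi⟩
      have hNlt : Nat.card N < n := by
        rw [← hn]
        refine lt_of_le_of_ne (Subgroup.card_le_card_group N) fun h => hNt ?_
        exact Subgroup.eq_top_of_card_eq _ h
      refine CfsgLib.Fusion.PSolv.isPSolvable_of_normal N ?_ ?_
      · exact ih _ hNlt N p rfl hmer (lt_of_le_of_lt (Nat.le_of_dvd Nat.card_pos hd1) hlt) (hpow hd1)
      · exact ih _ (by rw [← hn, hmul]; nlinarith) (G ⧸ N) p rfl hmer
          (lt_of_le_of_lt (Nat.le_of_dvd Nat.card_pos hd2) hlt) (hpow hd2)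
    push Not at hN
    apply CfsgLib.Fusion.PSolv.isPSolvable_of_pGroup_or_coprime
    by_cases hpG : p ∣ Nat.card G
    swap
    · exact Or.inr ((Nat.Prime.coprime_iff_not_dvd hp.out).2 hpG).symm
    rcases subsingleton_or_nontrivial G with hG | hG
    · exact absurd (Nat.card_unique (α := G) ▸ hpG) hp.out.not_dvd_one
    haveI : IsSimpleGroup G := ⟨fun H hH => (em (H = ⊥)).imp id fun hb => hN H hH hb⟩
    by_cases hc : IsMulCommutative G
    · left
      obtain ⟨P⟩ := (inferInstance : Nonempty (Sylow p G))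
      have hPn : (P : Subgroup G).Normal := ⟨fun x hx g => by
        rwa [hc.is_comm.comm g x, mul_inv_cancel_right]⟩
      have := hN _ hPn (P.ne_bot_of_dvd_card hpG)
      exact (this ▸ P.isPGroup' : IsPGroup p (⊤ : Subgroup G)).of_equiv Subgroup.topEquiv
    · exact (false_of_simple hc hpG hlt hmer hq hqk).elim

end CfsgLib.SylowBelowSq
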