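import Mathlib

/-!
The theorem of Sylvester and Schur: for `1 ≤ k` and `2 * k ≤ n` the binomial coefficient
`n.choose k` has a prime divisor exceeding `k`. The proof follows Erdős.
-/

set_option autoImplicit false

namespace CfsgLib.SylvesterSchur

open Nat Finset

theorem dvd_choose {n k i p : ℕ} (hp : p.Prime) (hkn : k ≤ n) (hkp : k < p) (hi : i < k)
    (hd : p ∣ n - i) : p ∣ n.choose k := by
  have h1 : p ∣ n.descFactorial k := by
    rw [Nat.descFactorial_eq_prod_range]
    exact dvd_trans hd (Finset.dvd_prod_of_mem _ (Finset.mem_range.2 hi))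
  rw [Nat.descFactorial_eq_factorial_mul_choose] at h1
  rcases hp.dvd_mul.1 h1 with h | h
  · exact absurd (hp.dvd_factorial.1 h) (by omega)
  · exact h

theorem dvd_pow_factorial {x k a : ℕ} (hx : x ≠ 0) (hxa : x < 2 ^ a)
    (h : ∀ p : ℕ, p.Prime → p ∣ x → p ≤ k) : x ∣ k.factorial ^ a := by
  rw [← Nat.factorization_le_iff_dvd hx (by positivity), Finsupp.le_def]
  intro p
  rw [Nat.factorization_pow, Finsupp.smul_apply, smul_eq_mul]
  by_cases h0 : x.factorization p = 0
  · rw [h0]; exact Nat.zero_le _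
  have hp : p.Prime := Nat.prime_of_mem_primeFactors (by
    rw [← Nat.support_factorization, Finsupp.mem_support_iff]; exact h0)
  have hpx : p ∣ x := Nat.dvd_of_factorization_pos h0
  have hpk : 1 ≤ (k.factorial).factorization p :=
    hp.factorization_pos_of_dvd (Nat.factorial_ne_zero k) (hp.dvd_factorial.2 (h p hp hpx))
  have hle : p ^ x.factorization p ≤ x := Nat.le_of_dvd (by omega) (Nat.ordProj_dvd x p)
  have : 2 ^ x.factorization p < 2 ^ a :=
    lt_of_le_of_lt ((Nat.pow_le_pow_left hp.two_le _).trans hle) hxa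
  have hlt := (Nat.pow_lt_pow_iff_right (by norm_num : 1 < 2)).1 this
  calc x.factorization p ≤ a * 1 := by omega
    _ ≤ _ := Nat.mul_le_mul_left a hpk

/-- Small case test. -/
def smallTest (k n : ℕ) : Bool :=
  (List.range k).any fun i => k.factorial ^ 11 % (n - i) != 0

theorem smallTable : (List.range 33).all (fun k => (List.range 1156).all fun n =>
    decide (n < 2 * (k + 1)) || smallTest (k + 1) n) = true := by
  decide +kernel

theorem small {n k : ℕ} (hk : 1 ≤ k) (hk34 : k < 34) (hn : n < 1156) (h2 : 2 * k ≤ n) :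
    ∃ p : ℕ, p.Prime ∧ k < p ∧ p ∣ n.choose k := by
  have h := smallTable
  rw [List.all_eq_true] at h
  have h' := h (k - 1) (List.mem_range.2 (by omega))
  rw [List.all_eq_true] at h'
  have h'' := h' n (List.mem_range.2 hn)
  rw [show k - 1 + 1 = k by omega, Bool.or_eq_true] at h''
  rcases h'' with h'' | h''
  · exact absurd (of_decide_eq_true h'') (by omega)
  · rw [smallTest, List.any_eq_true] at h''
    obtain ⟨i, hi, hne⟩ := h''
    rw [List.mem_range] at hi
    rw [bne_iff_ne] at hne
    by_contra hno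
    refine hne (Nat.mod_eq_zero_of_dvd (dvd_pow_factorial (by omega) (by omega) fun p hp hd => ?_))
    by_contra hkp
    exact hno ⟨p, hp, by omega, dvd_choose hp (by omega) (by omega) hi hd⟩

/-- Trial division primality test. -/
def primeTest (p : ℕ) : Bool :=
  decide (2 ≤ p) && decide (p < 32768) &&
    (List.range 182).all fun d => decide (d < 2) || decide (p < d * d) || (p % d != 0)

theorem prime_of_primeTest {p : ℕ} (h : primeTest p = true) : p.Prime := by
  simp only [primeTest, Bool.and_eq_true, decide_eq_true_eq, List.all_eq_true, List.mem_range,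
    Bool.or_eq_true, bne_iff_ne, ne_eq] at h
  obtain ⟨⟨h1, h2⟩, h3⟩ := h
  rw [Nat.prime_def_le_sqrt]
  refine ⟨h1, fun d hd hds hdvd => ?_⟩
  rw [Nat.le_sqrt] at hds
  have : d < 182 := by
    by_contra hc
    have := Nat.mul_le_mul (not_lt.1 hc) (not_lt.1 hc)
    omega
  rcases h3 d this with (h' | h') | h'
  · omega
  · omega
  · exact h' (Nat.mod_eq_zero_of_dvd hdvd)

/-- A chain of primes with small gaps. -/
def chainTest (g N : ℕ) : List ℕ → Bool
  | [] => false
  | [p] => primeTest p && decide (N ≤ p + g)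
  | p :: q :: r => primeTest p && decide (q ≤ p + g) && chainTest g N (q :: r)

theorem exists_of_chain (g N : ℕ) : ∀ (l : List ℕ), chainTest g N l = true → ∀ n, l.headI ≤ n →
    n < N → ∃ p : ℕ, p.Prime ∧ p ≤ n ∧ n < p + g
  | [], h => by simp [chainTest] at h
  | [p], h => by
    simp only [chainTest, Bool.and_eq_true, decide_eq_true_eq] at h
    intro n hn hN
    exact ⟨p, prime_of_primeTest h.1, hn, by omega⟩
  | p :: q :: r, h => by
    simp only [chainTest, Bool.and_eq_true, decide_eq_true_eq] at h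
    intro n hn hN
    by_cases hq : q ≤ n
    · exact exists_of_chain g N (q :: r) h.2 n hq hN
    · exact ⟨p, prime_of_primeTest h.1.1, hn, by omega⟩

/-- Primes below `5184` with gaps at most `34`. -/
def chainA : List ℕ := [
    67, 101, 131, 163, 197, 229, 263, 293, 317, 349, 383, 409, 443, 467,
    499, 523, 557, 587, 619, 653, 683, 709, 743, 773, 797, 829, 863, 887,
    919, 953, 983, 1013, 1039, 1069, 1103, 1129, 1163, 1193, 1223, 1249, 1283, 1307,
    1327, 1361, 1381, 1409, 1439, 1471, 1499, 1531, 1559, 1583, 1613, 1637, 1669, 1699,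
    1733, 1759, 1789, 1823, 1847, 1879, 1913, 1933, 1951, 1979, 2011, 2039, 2069, 2099,
    2131, 2161, 2179, 2213, 2243, 2273, 2297, 2311, 2341, 2371, 2399, 2423, 2447, 2477,
    2503, 2531, 2557, 2591, 2621, 2647, 2677, 2711, 2741, 2767, 2801, 2833, 2861, 2887,
    2917, 2939, 2971, 3001, 3023, 3049, 3083, 3109, 3137, 3169, 3203, 3229, 3259, 3271,
    3301, 3331, 3361, 3391, 3413, 3433, 3467, 3499, 3533, 3559, 3593, 3623, 3643, 3677,
    3709, 3739, 3769, 3803, 3833, 3863, 3889, 3923, 3947, 3967, 4001, 4027, 4057, 4091,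
    4111, 4139, 4159, 4177, 4211, 4243, 4273, 4297, 4327, 4357, 4391, 4423, 4457, 4483,
    4517, 4549, 4583, 4603, 4637, 4663, 4691, 4723, 4751, 4783, 4817, 4831, 4861, 4889,
    4919, 4951, 4973, 5003, 5023, 5051, 5081, 5113, 5147, 5179]

/-- Primes below `32768` with gaps at most `72`. -/
def chainB : List ℕ := [
    139, 211, 283, 353, 421, 491, 563, 631, 701, 773, 839, 911, 983, 1051,
    1123, 1193, 1259, 1327, 1399, 1471, 1543, 1613, 1669, 1741, 1811, 1879, 1951, 2017,
    2089, 2161, 2221, 2293, 2357, 2423, 2477, 2549, 2621, 2693, 2753, 2819, 2887, 2957,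
    3023, 3089, 3137, 3209, 3271, 3343, 3413, 3469, 3541, 3613, 3677, 3739, 3803, 3863,
    3931, 4003, 4073, 4139, 4211, 4283, 4349, 4421, 4493, 4561, 4621, 4691, 4759, 4831,
    4903, 4973, 5039, 5107, 5179, 5237, 5309, 5381, 5449, 5521, 5591, 5659, 5717, 5783,
    5851, 5923, 5987, 6053, 6121, 6173, 6229, 6301, 6373, 6427, 6491, 6563, 6619, 6691,
    6763, 6833, 6899, 6971, 7043, 7109, 7177, 7247, 7309, 7369, 7433, 7499, 7561, 7621,
    7691, 7759, 7829, 7901, 7963, 8017, 8089, 8161, 8233, 8297, 8369, 8431, 8501, 8573,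
    8641, 8713, 8783, 8849, 8893, 8963, 9029, 9091, 9161, 9227, 9293, 9349, 9421, 9491,
    9551, 9623, 9689, 9749, 9817, 9887, 9949, 10009, 10079, 10151, 10223, 10289, 10357, 10429,
    10501, 10567, 10639, 10711, 10781, 10853, 10909, 10979, 11047, 11119, 11177, 11243, 11311, 11383,
    11447, 11519, 11587, 11657, 11719, 11789, 11839, 11909, 11981, 12049, 12119, 12163, 12227, 12289,
    12347, 12413, 12479, 12547, 12619, 12689, 12757, 12829, 12899, 12967, 13037, 13109, 13177, 13249,
    13313, 13381, 13451, 13523, 13591, 13649, 13721, 13789, 13859, 13931, 13999, 14071, 14143, 14207,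
    14251, 14323, 14389, 14461, 14533, 14593, 14657, 14723, 14783, 14851, 14923, 14983, 15053, 15121,
    15193, 15263, 15331, 15401, 15473, 15541, 15607, 15679, 15749, 15817, 15889, 15959, 16007, 16073,
    16141, 16193, 16253, 16319, 16381, 16453, 16519, 16573, 16633, 16703, 16763, 16831, 16903, 16963,
    17033, 17099, 17167, 17239, 17299, 17359, 17431, 17497, 17569, 17627, 17683, 17749, 17807, 17863,
    17929, 17989, 18061, 18133, 18199, 18269, 18341, 18413, 18481, 18553, 18617, 18679, 18749, 18803,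
    18869, 18919, 18979, 19051, 19121, 19183, 19249, 19319, 19391, 19463, 19531, 19603, 19661, 19727,
    19793, 19861, 19927, 19997, 20063, 20129, 20201, 20269, 20341, 20411, 20483, 20551, 20611, 20681,
    20753, 20809, 20879, 20947, 21019, 21089, 21157, 21227, 21283, 21347, 21419, 21491, 21563, 21617,
    21683, 21751, 21821, 21893, 21961, 22031, 22093, 22159, 22229, 22291, 22349, 22409, 22481, 22549,
    22621, 22691, 22751, 22817, 22877, 22943, 23011, 23081, 23143, 23209, 23279, 23339, 23399, 23459,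
    23531, 23603, 23671, 23743, 23813, 23879, 23929, 24001, 24071, 24137, 24203, 24251, 24317, 24379,
    24443, 24509, 24571, 24631, 24697, 24767, 24821, 24889, 24953, 25013, 25073, 25127, 25189, 25261,
    25321, 25391, 25463, 25523, 25589, 25657, 25717, 25771, 25841, 25913, 25981, 26053, 26119, 26189,
    26261, 26321, 26393, 26459, 26513, 26573, 26641, 26713, 26783, 26849, 26921, 26993, 27061, 27127,
    27197, 27259, 27329, 27397, 27457, 27529, 27583, 27653, 27701, 27773, 27827, 27893, 27961, 28031,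
    28099, 28163, 28229, 28297, 28351, 28411, 28477, 28549, 28621, 28687, 28759, 28817, 28879, 28949,
    29021, 29077, 29147, 29209, 29269, 29339, 29411, 29483, 29537, 29599, 29671, 29741, 29803, 29873,
    29927, 29989, 30059, 30119, 30187, 30259, 30323, 30391, 30449, 30517, 30577, 30649, 30713, 30781,
    30853, 30911, 30983, 31051, 31123, 31193, 31259, 31327, 31397, 31469, 31541, 31607, 31667, 31729,
    31799, 31859, 31907, 31973, 32029, 32099, 32159, 32213, 32261, 32327, 32381, 32443, 32507, 32579,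
    32647, 32719]

theorem chainA_ok : chainTest 34 5184 chainA = true := by decide +kernel

theorem chainB_ok : chainTest 72 32768 chainB = true := by decide +kernel

theorem of_chain {g N : ℕ} {l : List ℕ} (hl : chainTest g N l = true) {n k : ℕ} (hg : g ≤ k)
    (h2 : 2 * k ≤ n) (hn : n < N) (hhead : l.headI ≤ n) :
    ∃ p : ℕ, p.Prime ∧ k < p ∧ p ∣ n.choose k := by
  obtain ⟨p, hp, hpn, hnp⟩ := exists_of_chain g N l hl n hhead hn
  refine ⟨p, hp, by omega, dvd_choose hp (by omega) (by omega) (i := n - p) (by omega) ?_⟩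
  rw [show n - (n - p) = p by omega]

/-! ### Counting primes -/

theorem primeCounting_le_third (x : ℕ) : 3 * Nat.primeCounting x ≤ x + 12 := by
  rcases Nat.lt_or_ge x 6 with h | h
  · interval_cases x <;> decide
  · obtain ⟨m, rfl⟩ := Nat.exists_eq_add_of_le h
    have h1 := Nat.primeCounting_add_le (a := 6) (k := 6) (by norm_num) le_rfl m
    have h2 : Nat.primeCounting 6 = 3 := by decide
    have h3 : Nat.totient 6 = 2 := by decide
    rw [h2, h3] at h1
    omega

theorem two_mul_primeCounting_lt {k : ℕ} (hk : 9 ≤ k) : 2 * Nat.primeCounting k < k := by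
  rcases Nat.lt_or_ge k 25 with h | h
  · interval_cases k <;> decide
  · have := primeCounting_le_third k
    omega

/-! ### Lower bounds -/

theorem pow_le_pow_mul_choose (n k : ℕ) (h : k ≤ n) : n ^ k ≤ k ^ k * n.choose k := by
  have key : ∀ i ≤ k, n ^ i * k.descFactorial i ≤ k ^ i * n.descFactorial i := by
    intro i hi
    induction i with
    | zero => simp
    | succ i ih =>
      have h1 : n * (k - i) ≤ k * (n - i) := by
        rw [Nat.mul_sub, Nat.mul_sub, mul_comm k n]
        exact Nat.sub_le_sub_left (Nat.mul_le_mul_right i h) _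
      calc n ^ (i + 1) * k.descFactorial (i + 1) = (n * (k - i)) * (n ^ i * k.descFactorial i) := by
            rw [Nat.descFactorial_succ]; ring
        _ ≤ (k * (n - i)) * (k ^ i * n.descFactorial i) := Nat.mul_le_mul h1 (ih (by omega))
        _ = k ^ (i + 1) * n.descFactorial (i + 1) := by rw [Nat.descFactorial_succ]; ring
  have h2 := key k le_rfl
  rw [Nat.descFactorial_self, Nat.descFactorial_eq_factorial_mul_choose] at h2
  exact Nat.le_of_mul_le_mul_right (c := n.choose k * 0 + k.factorial)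
    (by rw [Nat.mul_zero, Nat.zero_add]; calc
      n ^ k * k.factorial ≤ k ^ k * (k.factorial * n.choose k) := h2
      _ = k ^ k * n.choose k * k.factorial := by ring)
    (by simp [Nat.factorial_pos])

theorem choose_three_mul_succ (k : ℕ) :
    (3 * k + 3).choose (k + 1) * (2 * (k + 1) * (2 * k + 1)) =
      (3 * k).choose k * (3 * (3 * k + 2) * (3 * k + 1)) := by
  have h1 := Nat.add_one_mul_choose_eq (3 * k + 2) k
  have h2 := Nat.choose_mul_succ_eq (3 * k + 1) k
  have h3 := Nat.choose_mul_succ_eq (3 * k) k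
  rw [show 3 * k + 2 + 1 = 3 * k + 3 by ring] at h1
  rw [show 3 * k + 1 + 1 - k = 2 * k + 2 by omega, show 3 * k + 1 + 1 = 3 * k + 2 by ring] at h2
  rw [show 3 * k + 1 - k = 2 * k + 1 by omega] at h3
  refine Nat.eq_of_mul_eq_mul_right (show 0 < k + 1 by omega) ?_
  calc (3 * k + 3).choose (k + 1) * (2 * (k + 1) * (2 * k + 1)) * (k + 1)
      = (3 * k + 3) * ((3 * k + 2).choose k * (2 * k + 2)) * (2 * k + 1) := by
        calc _ = (3 * k + 3).choose (k + 1) * (k + 1) * ((2 * k + 2) * (2 * k + 1)) := by ring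
          _ = _ := by rw [← h1]; ring
    _ = (3 * k).choose k * (3 * (3 * k + 2) * (3 * k + 1)) * (k + 1) := by
        rw [← h2]
        calc (3 * k + 3) * ((3 * k + 1).choose k * (3 * k + 2)) * (2 * k + 1)
            = (3 * k + 3) * (3 * k + 2) * ((3 * k + 1).choose k * (2 * k + 1)) := by ring
          _ = _ := by rw [← h3]; ring

theorem two_pow_le_choose_three (k : ℕ) : 2 ^ (5 * k) ≤ 64 * (3 * k).choose k ^ 2 := by
  induction k with
  | zero => decide
  | succ k ih =>
    rcases Nat.lt_or_ge k 4 with h | h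
    · interval_cases k <;> decide
    · have e := choose_three_mul_succ k
      have hpos : 0 < 2 * (k + 1) * (2 * k + 1) := by positivity
      have h6 : 6 * (3 * k).choose k ≤ (3 * k + 3).choose (k + 1) := by
        refine Nat.le_of_mul_le_mul_right ?_ hpos
        rw [e]
        calc 6 * (3 * k).choose k * (2 * (k + 1) * (2 * k + 1))
            = (3 * k).choose k * (6 * (2 * (k + 1) * (2 * k + 1))) := by ring
          _ ≤ _ := Nat.mul_le_mul_left _ (by nlinarith)
      calc 2 ^ (5 * (k + 1)) = 32 * 2 ^ (5 * k) := by ring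
        _ ≤ 32 * (64 * (3 * k).choose k ^ 2) := Nat.mul_le_mul_left _ ih
        _ ≤ 64 * (6 * (3 * k).choose k) ^ 2 := by rw [mul_pow]; omega
        _ ≤ 64 * ((3 * k + 3).choose (k + 1)) ^ 2 := by gcongr
        _ = 64 * (3 * (k + 1)).choose (k + 1) ^ 2 := by rw [mul_add]

theorem choose_four_mul_succ (k : ℕ) :
    (4 * k + 4).choose (k + 1) * (3 * (k + 1) * (3 * k + 2) * (3 * k + 1)) =
      (4 * k).choose k * (4 * (4 * k + 3) * (4 * k + 2) * (4 * k + 1)) := by
  have h1 := Nat.add_one_mul_choose_eq (4 * k + 3) k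
  have h2 := Nat.choose_mul_succ_eq (4 * k + 2) k
  have h3 := Nat.choose_mul_succ_eq (4 * k + 1) k
  have h4 := Nat.choose_mul_succ_eq (4 * k) k
  rw [show 4 * k + 3 + 1 = 4 * k + 4 by ring] at h1
  rw [show 4 * k + 2 + 1 - k = 3 * k + 3 by omega, show 4 * k + 2 + 1 = 4 * k + 3 by ring] at h2
  rw [show 4 * k + 1 + 1 - k = 3 * k + 2 by omega, show 4 * k + 1 + 1 = 4 * k + 2 by ring] at h3
  rw [show 4 * k + 1 - k = 3 * k + 1 by omega] at h4
  refine Nat.eq_of_mul_eq_mul_right (show 0 < k + 1 by omega) ?_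
  calc (4 * k + 4).choose (k + 1) * (3 * (k + 1) * (3 * k + 2) * (3 * k + 1)) * (k + 1)
      = (4 * k + 4) * ((4 * k + 3).choose k * (3 * k + 3)) * ((3 * k + 2) * (3 * k + 1)) := by
        calc _ = (4 * k + 4).choose (k + 1) * (k + 1) * ((3 * k + 3) * (3 * k + 2) * (3 * k + 1)) := by
              ring
          _ = _ := by rw [← h1]; ring
    _ = (4 * k).choose k * (4 * (4 * k + 3) * (4 * k + 2) * (4 * k + 1)) * (k + 1) := by
        rw [← h2]
        calc (4 * k + 4) * ((4 * k + 2).choose k * (4 * k + 3)) * ((3 * k + 2) * (3 * k + 1))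
            = (4 * k + 4) * (4 * k + 3) * ((4 * k + 2).choose k * (3 * k + 2)) * (3 * k + 1) := by
              ring
          _ = (4 * k + 4) * (4 * k + 3) * (4 * k + 2) * ((4 * k + 1).choose k * (3 * k + 1)) := by
              rw [← h3]; ring
          _ = _ := by rw [← h4]; ring

theorem two_pow_le_choose_four (k : ℕ) : 2 ^ (3 * k) ≤ 4 * (4 * k).choose k := by
  induction k with
  | zero => decide
  | succ k ih =>
    rcases Nat.lt_or_ge k 4 with h | h
    · interval_cases k <;> decide
    · have e := choose_four_mul_succ k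
      have hpos : 0 < 3 * (k + 1) * (3 * k + 2) * (3 * k + 1) := by positivity
      have h8 : 8 * (4 * k).choose k ≤ (4 * k + 4).choose (k + 1) := by
        refine Nat.le_of_mul_le_mul_right ?_ hpos
        rw [e]
        calc 8 * (4 * k).choose k * (3 * (k + 1) * (3 * k + 2) * (3 * k + 1))
            = (4 * k).choose k * (8 * (3 * (k + 1) * (3 * k + 2) * (3 * k + 1))) := by ring
          _ ≤ _ := Nat.mul_le_mul_left _ (by nlinarith)
      calc 2 ^ (3 * (k + 1)) = 8 * 2 ^ (3 * k) := by ring
        _ ≤ 4 * (8 * (4 * k).choose k) := by omega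
        _ ≤ 4 * (4 * (k + 1)).choose (k + 1) := by rw [mul_add]; exact Nat.mul_le_mul_left _ h8

/-! ### Upper bounds -/

variable {n k : ℕ}

theorem choose_mono_left_half {a b : ℕ} (hab : a ≤ b) (hb : 2 * b ≤ n) :
    n.choose a ≤ n.choose b := by
  induction b, hab using Nat.le_induction with
  | base => exact le_rfl
  | succ m hm ih => exact (ih (by omega)).trans (Nat.choose_le_succ_of_lt_half_left (by omega))

theorem factorization_eq_zero_of_big (hno : ∀ p : ℕ, p.Prime → p ∣ n.choose k → p ≤ k) {p : ℕ}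
    (hkp : k < p) : (n.choose k).factorization p = 0 := by
  by_contra h
  have hp : p.Prime := Nat.prime_of_mem_primeFactors (by
    rw [← Nat.support_factorization, Finsupp.mem_support_iff]; exact h)
  exact absurd (hno p hp (Nat.dvd_of_factorization_pos h)) (by omega)

theorem choose_le_pow_primeCounting (hn : k ≤ n)
    (hno : ∀ p : ℕ, p.Prime → p ∣ n.choose k → p ≤ k) :
    n.choose k ≤ n ^ Nat.primeCounting k := by
  rcases Nat.eq_zero_or_pos n with rfl | hn0
  · simp [Nat.le_zero.1 hn]
  rw [← Nat.primesLE_card_eq_primeCounting]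
  calc n.choose k = ∏ p ∈ range (n + 1), p ^ (n.choose k).factorization p :=
        (Nat.prod_pow_factorization_choose n k hn).symm
    _ = ∏ p ∈ Nat.primesLE k, p ^ (n.choose k).factorization p := by
        symm
        refine prod_subset (fun p hp => ?_) fun p _ hp => ?_
        · rw [Nat.mem_primesLE] at hp
          exact mem_range.2 (by omega)
        · rw [Nat.mem_primesLE, not_and_or] at hp
          rcases hp with hp | hp
          · rw [factorization_eq_zero_of_big hno (by omega), pow_zero]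
          · rw [Nat.factorization_eq_zero_of_not_prime _ hp, pow_zero]
    _ ≤ ∏ _p ∈ Nat.primesLE k, n := prod_le_prod' fun p _ => Nat.pow_factorization_choose_le hn0
    _ = _ := by rw [prod_const]

theorem choose_le_main (hn : 2 * k ≤ n) (hn6 : 6 ≤ n)
    (hno : ∀ p : ℕ, p.Prime → p ∣ n.choose k → p ≤ k) (c : ℕ) (hc : n < (c + 1) ^ 3) :
    n.choose k ≤ n ^ Nat.primeCounting c * 4 ^ Nat.sqrt n * 4 ^ min k (n / 3) := by
  set j := min k (n / 3) with hj
  set S := (range (n + 1)).filter Nat.Prime with hS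
  have hzero : ∀ p, j < p → (n.choose k).factorization p = 0 := by
    intro p hp
    by_cases hkp : k < p
    · exact factorization_eq_zero_of_big hno hkp
    · exact Nat.factorization_choose_of_lt_three_mul (by omega) (by omega) (by omega) (by omega)
  have hpt : ∀ p ∈ S, p ^ (n.choose k).factorization p ≤
      (if p ≤ c then n else 1) * (if p ≤ Nat.sqrt n then p else 1) * (if p ≤ j then p else 1) := by
    intro p hp
    have hpp : p.Prime := (mem_filter.1 hp).2
    have h1 : ∀ b : Prop, ∀ _ : Decidable b, 1 ≤ (if b then p else 1) := fun b _ => by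
      split <;> [exact hpp.one_lt.le; exact le_rfl]
    by_cases hpc : p ≤ c
    · rw [if_pos hpc, mul_assoc]
      exact (Nat.pow_factorization_choose_le (by omega)).trans
        (Nat.le_mul_of_pos_right _ (Nat.mul_pos (h1 _ _) (h1 _ _)))
    rw [if_neg hpc, one_mul]
    by_cases hpj : p ≤ j
    · rw [if_pos hpj]
      by_cases hps : p ≤ Nat.sqrt n
      · rw [if_pos hps, ← pow_two]
        refine Nat.pow_le_pow_right hpp.pos ?_
        have h3 : p ^ (n.choose k).factorization p ≤ n := Nat.pow_factorization_choose_le (by omega)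
        by_contra h
        have : p ^ 3 ≤ n := (Nat.pow_le_pow_right hpp.pos (by omega)).trans h3
        have : (c + 1) ^ 3 ≤ p ^ 3 := Nat.pow_le_pow_left (by omega) 3
        omega
      · rw [if_neg hps, one_mul]
        calc p ^ (n.choose k).factorization p ≤ p ^ 1 :=
              Nat.pow_le_pow_right hpp.pos (Nat.factorization_choose_le_one
                (Nat.sqrt_lt'.1 (by omega)))
          _ = p := pow_one p
    · rw [hzero p (by omega), pow_zero]
      exact Nat.mul_pos (h1 _ _) (h1 _ _)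
  calc n.choose k = ∏ p ∈ range (n + 1), p ^ (n.choose k).factorization p :=
        (Nat.prod_pow_factorization_choose n k (by omega)).symm
    _ = ∏ p ∈ S, p ^ (n.choose k).factorization p := by
        refine (prod_filter_of_ne fun p _ h => ?_).symm
        by_contra hp
        exact h (by rw [Nat.factorization_eq_zero_of_not_prime _ hp, pow_zero])
    _ ≤ ∏ p ∈ S, (if p ≤ c then n else 1) * (if p ≤ Nat.sqrt n then p else 1) *
          (if p ≤ j then p else 1) := prod_le_prod' hpt
    _ ≤ _ := by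
        rw [prod_mul_distrib, prod_mul_distrib]
        refine Nat.mul_le_mul (Nat.mul_le_mul ?_ ?_) ?_
        · rw [← prod_filter, prod_const, ← Nat.primesLE_card_eq_primeCounting]
          refine Nat.pow_le_pow_right (by omega) (card_le_card fun p hp => ?_)
          rw [mem_filter, hS, mem_filter] at hp
          exact Nat.mem_primesLE.2 ⟨hp.2, hp.1.2⟩
        all_goals
          rw [← prod_filter]
          refine le_trans ?_ (primorial_le_four_pow _)
          refine prod_le_prod_of_subset_of_one_le' (fun p hp => ?_) fun p hp _ => ?_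
          · rw [mem_filter, hS, mem_filter] at hp
            exact mem_filter.2 ⟨mem_range.2 (by omega), hp.1.2⟩
          · exact (mem_filter.1 hp).2.one_lt.le

theorem aux_growth : ∀ L : ℕ, 21 ≤ L →
    32 * (2 ^ (L / 2 + 2) + ((L + 1) * (2 ^ (L / 3) + 1) + 8)) ≤ 2 ^ L ∧
      ((L + 1) * (2 ^ (L / 3) + 1) + 8) ^ 2 ≤ 4 * 2 ^ L := by
  intro L
  induction L using Nat.strong_induction_on with
  | _ L ih =>
    intro hL
    rcases Nat.lt_or_ge L 27 with h | h
    · interval_cases L <;> norm_num
    · obtain ⟨M, rfl⟩ : ∃ M, L = M + 6 := ⟨L - 6, by omega⟩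
      obtain ⟨hA, hB⟩ := ih M (by omega) (by omega)
      have e2 : 2 ^ ((M + 6) / 2 + 2) = 8 * 2 ^ (M / 2 + 2) := by
        rw [show (M + 6) / 2 + 2 = M / 2 + 2 + 3 by omega, pow_add]; ring
      have e3 : 2 ^ ((M + 6) / 3) = 4 * 2 ^ (M / 3) := by
        rw [show (M + 6) / 3 = M / 3 + 2 by omega, pow_add]; ring
      have e1 : 2 ^ (M + 6) = 64 * 2 ^ M := by rw [pow_add]; ring
      have hY : (M + 6 + 1) * (4 * 2 ^ (M / 3) + 1) + 8 ≤
          8 * ((M + 1) * (2 ^ (M / 3) + 1) + 8) := by
        nlinarith [Nat.zero_le (M * 2 ^ (M / 3)), Nat.one_le_two_pow (n := M / 3)]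
      rw [e2, e3, e1]
      refine ⟨?_, ?_⟩
      · omega
      · calc ((M + 6 + 1) * (4 * 2 ^ (M / 3) + 1) + 8) ^ 2
            ≤ (8 * ((M + 1) * (2 ^ (M / 3) + 1) + 8)) ^ 2 := Nat.pow_le_pow_left hY 2
          _ = 64 * ((M + 1) * (2 ^ (M / 3) + 1) + 8) ^ 2 := by ring
          _ ≤ 64 * (4 * 2 ^ M) := Nat.mul_le_mul_left _ hB
          _ = 4 * (64 * 2 ^ M) := by ring

theorem growth (L : ℕ) (hL : 15 ≤ L) :
    32 * (2 ^ (L / 2 + 2) + (L + 1) * Nat.primeCounting (2 ^ (L / 3 + 1)) + 8) ≤ 2 ^ L ∧
      ((L + 1) * Nat.primeCounting (2 ^ (L / 3 + 1))) ^ 2 ≤ 4 * 2 ^ L := by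
  rcases Nat.lt_or_ge L 21 with h | h
  · have h64 : Nat.primeCounting 64 = 18 := by decide +kernel
    have h128 : Nat.primeCounting 128 = 31 := by decide +kernel
    interval_cases L <;> norm_num [h64, h128]
  · obtain ⟨hA, hB⟩ := aux_growth L h
    have h1 : 2 ^ 7 ≤ 2 ^ (L / 3) := Nat.pow_le_pow_right (by norm_num) (by omega)
    have h2 := primeCounting_le_third (2 ^ (L / 3 + 1))
    rw [pow_succ] at h2
    have hpi : Nat.primeCounting (2 ^ (L / 3 + 1)) ≤ 2 ^ (L / 3) + 1 := by
      rw [pow_succ]; omega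
    have hX : (L + 1) * Nat.primeCounting (2 ^ (L / 3 + 1)) ≤
        (L + 1) * (2 ^ (L / 3) + 1) + 8 :=
      (Nat.mul_le_mul_left _ hpi).trans (Nat.le_add_right _ _)
    have hX' := Nat.mul_le_mul_left (L + 1) hpi
    refine ⟨by omega, ?_⟩
    exact (Nat.pow_le_pow_left hX 2).trans hB

theorem large (hk2 : 2 * k ≤ n) (hn : 32768 ≤ n) (hnk : n < k ^ 2)
    (hno : ∀ p : ℕ, p.Prime → p ∣ n.choose k → p ≤ k) : False := by
  set L := Nat.log 2 n with hLdef
  have hL1 : 2 ^ L ≤ n := Nat.pow_log_le_self 2 (by omega)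
  have hL2 : n < 2 ^ (L + 1) := Nat.lt_pow_succ_log_self (by norm_num) n
  have hL15 : 15 ≤ L := Nat.le_log_of_pow_le (by norm_num) hn
  set c := 2 ^ (L / 3 + 1) with hcdef
  have hc : n < (c + 1) ^ 3 := by
    calc n < 2 ^ (L + 1) := hL2
      _ ≤ 2 ^ ((L / 3 + 1) * 3) := Nat.pow_le_pow_right (by norm_num) (by omega)
      _ = c ^ 3 := by rw [hcdef, ← pow_mul]
      _ ≤ (c + 1) ^ 3 := Nat.pow_le_pow_left (by omega) 3
  obtain ⟨hA, hB⟩ := growth L hL15
  rw [← hcdef] at hA hB
  set P := Nat.primeCounting c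
  set j := min k (n / 3) with hj
  set s := Nat.sqrt n with hs
  have hs2 : s < 2 ^ (L / 2 + 1) := by
    rw [hs, Nat.sqrt_lt']
    calc n < 2 ^ (L + 1) := hL2
      _ ≤ 2 ^ ((L / 2 + 1) * 2) := Nat.pow_le_pow_right (by norm_num) (by omega)
      _ = (2 ^ (L / 2 + 1)) ^ 2 := by rw [← pow_mul]
  have hsk : s < k := by rw [hs, Nat.sqrt_lt']; exact hnk
  have he : 2 ^ (L / 2 + 2) = 2 * 2 ^ (L / 2 + 1) := by rw [pow_succ 2 (L / 2 + 1)]; ring
  have hU : n.choose k ≤ 2 ^ ((L + 1) * P + 2 * s + 2 * j) := by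
    refine (choose_le_main hk2 (by omega) hno c hc).trans ?_
    rw [pow_add, pow_add, pow_mul, pow_mul, pow_mul]
    gcongr <;> norm_num
  by_cases h4 : n < 4 * k
  · have h1 : (3 * j).choose j ≤ n.choose k := by
      refine (Nat.choose_le_choose j (show 3 * j ≤ n by omega)).trans ?_
      exact choose_mono_left_half (show j ≤ k by omega) hk2
    have h3 : 2 ^ (5 * j) ≤ 2 ^ (6 + ((L + 1) * P + 2 * s + 2 * j) * 2) :=
      (two_pow_le_choose_three j).trans (by
        rw [pow_add, pow_mul 2 _ 2]
        exact Nat.mul_le_mul (by norm_num) (Nat.pow_le_pow_left (h1.trans hU) 2))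
    have := (Nat.pow_le_pow_iff_right (by norm_num : 1 < 2)).1 h3
    omega
  have hjk : j = k := by omega
  by_cases h16 : n < 16 * k
  · have h3 : 2 ^ (3 * k) ≤ 2 ^ (2 + ((L + 1) * P + 2 * s + 2 * j)) :=
      (two_pow_le_choose_four k).trans (by
        rw [pow_add]
        exact Nat.mul_le_mul (by norm_num) ((Nat.choose_le_choose k (by omega)).trans hU))
    have := (Nat.pow_le_pow_iff_right (by norm_num : 1 < 2)).1 h3
    omega
  have hkey : ∀ m, 2 ^ m * k ≤ n → m * k ≤ (L + 1) * P + 2 * s + 2 * j := by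
    intro m hm
    have h3 : 2 ^ (m * k) ≤ 2 ^ ((L + 1) * P + 2 * s + 2 * j) := by
      refine le_trans ?_ hU
      refine Nat.le_of_mul_le_mul_left ?_ (Nat.pow_pos (show 0 < k by omega) : 0 < k ^ k)
      refine le_trans ?_ (pow_le_pow_mul_choose n k (by omega))
      rw [pow_mul, ← mul_pow, mul_comm]
      exact Nat.pow_le_pow_left hm k
    exact (Nat.pow_le_pow_iff_right (by norm_num : 1 < 2)).1 h3
  by_cases h64 : n < 64 * k
  · have := hkey 4 (by norm_num; omega)
    omega
  · have := hkey 6 (by norm_num; omega)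
    have hX : (L + 1) * P < 2 * k := by
      refine lt_of_pow_lt_pow_left₀ 2 (Nat.zero_le _) ?_
      calc ((L + 1) * P) ^ 2 ≤ 4 * 2 ^ L := hB
        _ < (2 * k) ^ 2 := by rw [mul_pow]; norm_num; omega
    omega

theorem small_square (hk : 2 ≤ k) (hk8 : k ≤ 8) (hn : 100 ≤ n)
    (hno : ∀ p : ℕ, p.Prime → p ∣ n.choose k → p ≤ k) : False := by
  have hpk : Nat.primeCounting k ≤ k := by interval_cases k <;> decide
  have h1 : n ^ (k - Nat.primeCounting k) * n ^ Nat.primeCounting k ≤
      k ^ k * n ^ Nat.primeCounting k := by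
    rw [← pow_add, show k - Nat.primeCounting k + Nat.primeCounting k = k by omega]
    exact (pow_le_pow_mul_choose n k (by omega)).trans
      (Nat.mul_le_mul_left _ (choose_le_pow_primeCounting (by omega) hno))
  have h2 := Nat.le_of_mul_le_mul_right h1 (by positivity)
  have h3 : 100 ^ (k - Nat.primeCounting k) ≤ k ^ k :=
    (Nat.pow_le_pow_left hn _).trans h2
  revert h3
  interval_cases k <;> decide

theorem big_square (hk : 9 ≤ k) (hn : k ^ 2 ≤ n)
    (hno : ∀ p : ℕ, p.Prime → p ∣ n.choose k → p ≤ k) : False := by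
  have hkn : k ≤ n := le_trans (Nat.le_self_pow (by norm_num) k) hn
  have hlt := two_mul_primeCounting_lt hk
  set P := Nat.primeCounting k
  have h1 : n ^ (k - P) * n ^ P ≤ k ^ k * n ^ P := by
    rw [← pow_add, show k - P + P = k by omega]
    exact (pow_le_pow_mul_choose n k hkn).trans
      (Nat.mul_le_mul_left _ (choose_le_pow_primeCounting hkn hno))
  have h2 := Nat.le_of_mul_le_mul_right h1 (pow_pos (by omega) _)
  have h3 : (k ^ 2) ^ (k - P) ≤ k ^ k := (Nat.pow_le_pow_left hn _).trans h2
  rw [← pow_mul] at h3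
  have := (Nat.pow_le_pow_iff_right (by omega : 1 < k)).1 h3
  omega

/-- Sylvester–Schur. -/
theorem exists_prime_gt_dvd_choose (hk : 1 ≤ k) (h2 : 2 * k ≤ n) :
    ∃ p : ℕ, p.Prime ∧ k < p ∧ p ∣ n.choose k := by
  by_contra hno'
  have hno : ∀ p : ℕ, p.Prime → p ∣ n.choose k → p ≤ k := fun p hp hd => by
    by_contra h; exact hno' ⟨p, hp, by omega, hd⟩
  rcases Nat.eq_or_lt_of_le hk with rfl | hk1
  · obtain ⟨p, hp, hd⟩ := Nat.exists_prime_and_dvd (n := n) (by omega)
    have := hno p hp (by rwa [Nat.choose_one_right])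
    have := hp.two_le
    omega
  rcases Nat.lt_or_ge k 9 with h9 | h9
  · rcases Nat.lt_or_ge n 100 with h | h
    · exact hno' (small hk (by omega) (by omega) h2)
    · exact small_square hk1 (by omega) h hno
  rcases Nat.lt_or_ge n (k ^ 2) with hsq | hsq
  · rcases Nat.lt_or_ge k 34 with h34 | h34
    · have : k ^ 2 ≤ 34 ^ 2 := Nat.pow_le_pow_left (by omega) 2
      exact hno' (small hk h34 (by omega) h2)
    rcases Nat.lt_or_ge k 72 with h72 | h72
    · have : k ^ 2 ≤ 72 ^ 2 := Nat.pow_le_pow_left (by omega) 2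
      exact hno' (of_chain chainA_ok h34 h2 (by omega) (show 67 ≤ n by omega))
    rcases Nat.lt_or_ge n 32768 with hs | hs
    · exact hno' (of_chain chainB_ok h72 h2 hs (show 139 ≤ n by omega))
    · exact large h2 hs hsq hno
  · exact big_square h9 hsq hno

end CfsgLib.SylvesterSchur
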